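import Mathlib

/-!
Orders in semidirect products of a vector space with a group of linear maps in characteristic `p`.
-/

set_option autoImplicit false
set_option linter.unusedSectionVars false

namespace CfsgLib.OrthSpecNine

/-- An element of finite order is the product of a `p`-regular and a `p`-singular power. -/
theorem exists_parts {G : Type*} [Group G] {p : ℕ} (hp : p.Prime) (g : G) (hg : IsOfFinOrder g) :
    ∃ (a b e : ℕ), orderOf g = orderOf (g ^ a) * p ^ e ∧ orderOf (g ^ b) = p ^ e ∧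
      g = g ^ a * g ^ b ∧ ¬ p ∣ orderOf (g ^ a) := by
  have hN : orderOf g ≠ 0 := (orderOf_pos_iff.2 hg).ne'
  set N := orderOf g with hNdef
  set e := N.factorization p with he
  set m := N / p ^ e with hm
  have hmul : p ^ e * m = N := Nat.ordProj_mul_ordCompl_eq_self N p
  have hnd : ¬ p ∣ m := Nat.not_dvd_ordCompl hp hN
  have hco : Nat.Coprime (p ^ e) m := Nat.Coprime.pow_left e ((hp.coprime_iff_not_dvd).2 hnd)
  have hpe : 0 < p ^ e := pow_pos hp.pos e
  have hm0 : 0 < m := Nat.pos_of_ne_zero fun h => hN (by rw [← hmul, h, mul_zero])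
  obtain ⟨a, ha1, ha2⟩ : ∃ a, a ≡ 0 [MOD p ^ e] ∧ a ≡ 1 [MOD m] :=
    ⟨_, (Nat.chineseRemainder hco 0 1).2.1, (Nat.chineseRemainder hco 0 1).2.2⟩
  obtain ⟨b, hb1, hb2⟩ : ∃ b, b ≡ 1 [MOD p ^ e] ∧ b ≡ 0 [MOD m] :=
    ⟨_, (Nat.chineseRemainder hco 1 0).2.1, (Nat.chineseRemainder hco 1 0).2.2⟩
  have hsum : a + b ≡ 1 [MOD N] := by
    rw [← hmul, ← Nat.modEq_and_modEq_iff_modEq_mul hco]
    exact ⟨by simpa using ha1.add hb1, by simpa using ha2.add hb2⟩
  have hiffa : ∀ n, (g ^ a) ^ n = 1 ↔ m ∣ n := fun n => by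
    rw [← pow_mul, ← orderOf_dvd_iff_pow_eq_one, ← hNdef, ← hmul]
    refine ⟨fun h => ?_, fun h => ?_⟩
    · have h1 : a * n ≡ 1 * n [MOD m] := ha2.mul_right n
      rw [one_mul] at h1
      exact Nat.modEq_zero_iff_dvd.1 (h1.symm.trans (Nat.modEq_zero_iff_dvd.2 ((dvd_mul_left m _).trans h)))
    · exact Nat.mul_dvd_mul (Nat.modEq_zero_iff_dvd.1 ha1) h
  have hiffb : ∀ n, (g ^ b) ^ n = 1 ↔ p ^ e ∣ n := fun n => by
    rw [← pow_mul, ← orderOf_dvd_iff_pow_eq_one, ← hNdef, ← hmul]
    refine ⟨fun h => ?_, fun h => ?_⟩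
    · have h1 : b * n ≡ 1 * n [MOD p ^ e] := hb1.mul_right n
      rw [one_mul] at h1
      exact Nat.modEq_zero_iff_dvd.1 (h1.symm.trans (Nat.modEq_zero_iff_dvd.2 ((dvd_mul_right (p ^ e) m).trans h)))
    · rw [mul_comm (p ^ e) m]
      exact Nat.mul_dvd_mul (Nat.modEq_zero_iff_dvd.1 hb2) h
  have hoa : orderOf (g ^ a) = m := Nat.dvd_antisymm (orderOf_dvd_of_pow_eq_one ((hiffa m).2 dvd_rfl))
    ((hiffa _).1 (pow_orderOf_eq_one _))
  have hob : orderOf (g ^ b) = p ^ e := Nat.dvd_antisymm (orderOf_dvd_of_pow_eq_one ((hiffb _).2 dvd_rfl))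
    ((hiffb _).1 (pow_orderOf_eq_one _))
  refine ⟨a, b, e, by rw [hoa, mul_comm, hmul], hob, ?_, by rwa [hoa]⟩
  rw [← pow_add]
  conv_lhs => rw [← pow_one g]
  exact pow_eq_pow_iff_modEq.2 hsum.symm

/-- An element of a finite monoid whose order is divisible by `n` has a power of order `n`. -/
theorem exists_pow_orderOf {G : Type*} [Group G] [Finite G] (x : G) {n : ℕ} (h : n ∣ orderOf x) :
    ∃ y : G, orderOf y = n := by
  obtain ⟨k, hk⟩ := h
  have h0 := orderOf_pos x
  refine ⟨x ^ k, ?_⟩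
  rw [orderOf_pow' x (fun hk0 => by rw [hk0, mul_zero] at hk; omega), hk, Nat.gcd_mul_left_left]
  have hk0 : 0 < k := Nat.pos_of_ne_zero fun hk0 => by rw [hk0, mul_zero] at hk; omega
  exact Nat.mul_div_cancel _ hk0

section Semidirect

variable {F V : Type*} [Field F] [AddCommGroup V] [Module F V]
variable {G : Type*} [Group G] (φ : G →* MulAut (Multiplicative V)) (ρ : G →* Module.End F V)

/-- Powers in the semidirect product. -/
theorem semidirect_pow (hφ : ∀ g v, φ g (Multiplicative.ofAdd v) = Multiplicative.ofAdd (ρ g v))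
    (x : Multiplicative V ⋊[φ] G) : ∀ n : ℕ, (x ^ n).right = x.right ^ n ∧
      (x ^ n).left = Multiplicative.ofAdd (∑ i ∈ Finset.range n, (ρ x.right ^ i) x.left.toAdd) := by
  intro n
  induction n with
  | zero => simp
  | succ n ih =>
    rw [pow_succ' x, SemidirectProduct.mul_left, SemidirectProduct.mul_right, ih.1, ih.2, hφ, pow_succ']
    refine ⟨rfl, ?_⟩
    rw [Finset.sum_range_succ', map_sum]
    simp only [pow_succ', Module.End.mul_apply, pow_zero, Module.End.one_apply, ofAdd_add]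
    rw [mul_comm]
    rfl

/-- The orders in the semidirect product. -/
theorem semidirect_pow_eq_one (hφ : ∀ g v, φ g (Multiplicative.ofAdd v) = Multiplicative.ofAdd (ρ g v))
    (x : Multiplicative V ⋊[φ] G) (n : ℕ) :
    x ^ n = 1 ↔ x.right ^ n = 1 ∧ ∑ i ∈ Finset.range n, (ρ x.right ^ i) x.left.toAdd = 0 := by
  obtain ⟨h1, h2⟩ := semidirect_pow φ ρ hφ x n
  constructor
  · intro h
    rw [h] at h1 h2
    exact ⟨h1.symm, congrArg Multiplicative.toAdd h2.symm⟩
  · rintro ⟨h3, h4⟩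
    refine SemidirectProduct.ext ?_ ?_
    · rw [h2, h4]; rfl
    · rw [h1, h3]; rfl

end Semidirect

section Linear

variable {F V : Type*} [Field F] [AddCommGroup V] [Module F V] (p : ℕ) [hp : Fact p.Prime] [CharP F p]

theorem charP_end (h : ∃ v : V, v ≠ 0) : CharP (Module.End F V) p := by
  obtain ⟨v, hv⟩ := h
  haveI : Nontrivial (Module.End F V) := ⟨⟨1, 0, fun e => hv (LinearMap.congr_fun e v)⟩⟩
  exact charP_of_injective_algebraMap (algebraMap F (Module.End F V)).injective p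

/-- Frobenius on endomorphisms. -/
theorem sub_one_pow (u : Module.End F V) (j : ℕ) : (u - 1) ^ p ^ j = u ^ p ^ j - 1 := by
  by_cases h : ∃ v : V, v ≠ 0
  · haveI := charP_end (F := F) p h
    rw [sub_pow_char_pow_of_commute p j (Commute.one_right u), one_pow]
  · push Not at h
    exact LinearMap.ext fun v => by rw [h v, map_zero, map_zero]

/-- The geometric sum of length `p ^ j`. -/
theorem geom_sum_pow (u : Module.End F V) (j : ℕ) :
    ∑ i ∈ Finset.range (p ^ j), u ^ i = (u - 1) ^ (p ^ j - 1) := by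
  have key : ∑ i ∈ Finset.range (p ^ j), (Polynomial.X : Polynomial F) ^ i =
      (Polynomial.X - 1) ^ (p ^ j - 1) := by
    apply mul_right_cancel₀ (show (Polynomial.X - 1 : Polynomial F) ≠ 0 from Polynomial.X_sub_C_ne_zero 1)
    rw [geom_sum_mul, ← pow_succ, Nat.sub_add_cancel (pow_pos hp.out.pos j), sub_pow_char_pow, one_pow]
  simpa [map_sum] using congrArg (Polynomial.aeval u) key

/-- Powers killing an affine element are multiples of the next power of `p`. -/
theorem affine_bound (h u : Module.End F V) (v : V) (hv : ∀ i, (h ^ i) v = (u ^ i) v) {j : ℕ}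
    (hu : u ^ p ^ j = 1) (hne : ((u - 1) ^ (p ^ j - 1)) v ≠ 0) {n : ℕ} (hn : h ^ n = 1)
    (hsum : ∑ i ∈ Finset.range n, (h ^ i) v = 0) : p ^ (j + 1) ∣ n := by
  have hun : (u ^ n) v = v := by rw [← hv, hn]; rfl
  have hstep : ∀ a b, (u ^ a) v = v → (u ^ (a * b)) v = v := fun a b ha => by
    induction b with
    | zero => simp
    | succ b ih => rw [mul_add, mul_one, pow_add, Module.End.mul_apply, ha, ih]
  have hdvd : p ^ j ∣ n := by
    by_contra hnd
    obtain ⟨i, hi, hg⟩ := (Nat.dvd_prime_pow hp.out).1 (Nat.gcd_dvd_left (p ^ j) n)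
    have hij : i < j := lt_of_le_of_ne hi fun e => hnd (by rw [← e, ← hg]; exact Nat.gcd_dvd_right _ _)
    have hpj : 1 < p ^ j := Nat.one_lt_pow (by omega) hp.out.one_lt
    obtain ⟨b, c, hbc⟩ : ∃ b c : ℕ, n * b = p ^ j * c + p ^ i := by
      rcases Nat.eq_zero_or_pos n with h0 | h0
      · exact absurd (h0 ▸ dvd_zero (p ^ j)) hnd
      obtain ⟨b, -, hb⟩ := Nat.exists_mul_mod_eq_gcd (n := n) (k := p ^ j) (by
        rw [Nat.gcd_comm, hg]; exact Nat.pow_lt_pow_right hp.out.one_lt hij)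
      rw [Nat.gcd_comm, hg] at hb
      exact ⟨b, n * b / p ^ j, by rw [← hb]; exact (Nat.div_add_mod _ _).symm⟩
    have h1 : (u ^ p ^ i) v = v := by
      have h2 := hstep n b hun
      rwa [hbc, pow_add, pow_mul, hu, one_pow, one_mul] at h2
    have h3 : ((u - 1) ^ p ^ i) v = 0 := by rw [sub_one_pow p, LinearMap.sub_apply, h1, Module.End.one_apply, sub_self]
    have h4 : p ^ i ≤ p ^ j - 1 := Nat.le_sub_one_of_lt (Nat.pow_lt_pow_right hp.out.one_lt hij)
    exact hne (by rw [← Nat.sub_add_cancel h4, pow_add, Module.End.mul_apply, h3, map_zero])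
  obtain ⟨t, rfl⟩ := hdvd
  have hblock : ∀ t, ∑ i ∈ Finset.range (p ^ j * t), (h ^ i) v = t • ((u - 1) ^ (p ^ j - 1)) v := by
    intro t
    induction t with
    | zero => simp
    | succ t ih =>
      rw [mul_add, mul_one, Finset.sum_range_add, ih, succ_nsmul]
      congr 1
      rw [← geom_sum_pow p u j, LinearMap.sum_apply]
      refine Finset.sum_congr rfl fun i _ => ?_
      rw [hv, pow_add, pow_mul, hu, one_pow, one_mul]
  rw [hblock, ← Nat.cast_smul_eq_nsmul F, smul_eq_zero] at hsum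
  rw [pow_succ]
  exact Nat.mul_dvd_mul_left _ ((CharP.cast_eq_zero_iff F p t).1 (hsum.resolve_right hne))

/-- A failing geometric sum yields a fixed vector of the regular part with a full Jordan block. -/
theorem exists_fixed_block (h s u : Module.End F V) (hsu : Commute s u) (hh : h = s * u) {m j : ℕ} (hm : s ^ m = 1)
    (hu : u ^ p ^ j = 1) (hmp : ¬ p ∣ m) (v : V) (hne : ∑ i ∈ Finset.range (m * p ^ j), (h ^ i) v ≠ 0) :
    ∃ z, s z = z ∧ ((u - 1) ^ (p ^ j - 1)) z ≠ 0 := by
  set P := p ^ j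
  set z := ∑ k ∈ Finset.range m, ((s ^ P) ^ k) v with hz
  have hhP : h ^ P = s ^ P := by rw [hh, hsu.mul_pow, hu, mul_one]
  have hfixP : (s ^ P) z = z := by
    have h1 : (s ^ P - 1) * ∑ k ∈ Finset.range m, (s ^ P) ^ k = 0 := by
      rw [mul_geom_sum, ← pow_mul, mul_comm, pow_mul, hm, one_pow, sub_self]
    have h2 := LinearMap.congr_fun h1 v
    rwa [Module.End.mul_apply, LinearMap.sum_apply, LinearMap.sub_apply, LinearMap.zero_apply, ← hz,
      Module.End.one_apply, sub_eq_zero] at h2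
  have hfix : s z = z := by
    obtain ⟨c, hc⟩ : ∃ c, P * c ≡ 1 [MOD m] := by
      rcases eq_or_ne m 1 with rfl | h1
      · exact ⟨0, Nat.modEq_one⟩
      have hm0 : m ≠ 0 := fun h0 => hmp (h0 ▸ dvd_zero p)
      obtain ⟨c, -, hc⟩ := Nat.exists_mul_mod_eq_one_of_coprime
        ((Nat.Coprime.pow_left j ((hp.out.coprime_iff_not_dvd).2 hmp))) (by omega)
      exact ⟨c, by rw [Nat.ModEq, Nat.mod_eq_of_lt (show 1 < m by omega)]; exact hc⟩
    have h1 : s = (s ^ P) ^ c := by
      rw [← pow_mul]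
      conv_lhs => rw [← pow_one s]
      exact (pow_eq_pow_of_modEq hc hm).symm
    have h3 : ∀ k, (((s ^ P) ^ k) z) = z := fun k => by
      induction k with
      | zero => rfl
      | succ k ih => rw [pow_succ, Module.End.mul_apply, hfixP, ih]
    rw [h1]; exact h3 c
  refine ⟨z, hfix, fun h0 => hne ?_⟩
  have hpow : ∀ i, (h ^ i) z = (u ^ i) z := fun i => by
    have h3 : ∀ k, (s ^ k) z = z := fun k => by
      induction k with
      | zero => rfl
      | succ k ih => rw [pow_succ, Module.End.mul_apply, hfix, ih]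
    rw [hh, hsu.mul_pow, (hsu.pow_pow i i).eq, Module.End.mul_apply, h3]
  have hsum : ∀ k, ∑ i ∈ Finset.range (k * P), (h ^ i) v =
      ∑ r ∈ Finset.range P, (h ^ r) (∑ l ∈ Finset.range k, ((s ^ P) ^ l) v) := by
    intro k
    induction k with
    | zero => simp
    | succ k ih =>
      rw [add_mul, one_mul, Finset.sum_range_add, ih, ← Finset.sum_add_distrib]
      refine Finset.sum_congr rfl fun r _ => ?_
      rw [Finset.sum_range_succ, map_add]
      congr 1
      rw [add_comm, pow_add, Module.End.mul_apply, mul_comm, pow_mul, hhP]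
  rw [hsum, ← hz, Finset.sum_congr rfl fun i _ => hpow i, ← LinearMap.sum_apply, geom_sum_pow p]
  exact h0

end Linear

end CfsgLib.OrthSpecNine
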