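import Cfsg.Agent.Lib.Orth.Omega
import Cfsg.Agent.Lib.Orth.Stab
import Cfsg.Agent.Lib.Orth.Sum
import Cfsg.Agent.Lib.Derangements.OrthInvariantWitness

/-!
Isometries supported on non-degenerate pieces, and the invariant `(det, spinor sign)`.
-/

set_option autoImplicit false
set_option linter.unusedSectionVars false

namespace CfsgLib.OrthSpecNine

open Module QuadraticMap CfsgLib.Orth CfsgLib.Classical CfsgLib.Derangements

variable {F : Type*} [Field F] [Fintype F] {V : Type*} [AddCommGroup V] [Module F V] [FiniteDimensional F V]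
  [Finite V] {W : Type*} [AddCommGroup W] [Module F W] [FiniteDimensional F W] [Finite W]
  {Q : QuadraticForm F V} {R : QuadraticForm F W}

/-- Determinant and spinor sign. -/
noncomputable def chi (Q : QuadraticForm F V) : orthGroup Q →* Fˣ × ℤˣ :=
  (LinearEquiv.det.comp (orthGroup Q).subtype).prod (levelSign Q 1)

theorem chi_eq_one_iff (hQ : (polarBilin Q).Nondegenerate) (h2 : (2 : F) ≠ 0) (g : orthGroup Q) :
    chi Q g = 1 ↔ g ∈ commutator (orthGroup Q) := by
  rw [mem_commutator_odd hQ h2, Prod.ext_iff]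
  show LinearEquiv.det g.1 = 1 ∧ levelSign Q 1 g = 1 ↔ _
  rw [Units.ext_iff, LinearEquiv.coe_det]
  rfl

theorem chi_refl (h2 : (2 : F) ≠ 0) {a : V} (ha : Q a ≠ 0) [Decidable (IsSquare (Q a))] :
    chi Q (refl Q a) = (-1, if IsSquare (Q a) then -1 else 1) := by
  refine Prod.ext ?_ ?_
  · show LinearEquiv.det (refl Q a).1 = -1
    rw [Units.ext_iff, LinearEquiv.coe_det, det_refl Q ha]
    rfl
  · show levelSign Q 1 (refl Q a) = _
    haveI : Decidable (IsSquare (1 * Q a)) := by rw [one_mul]; infer_instance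
    rw [levelSign_refl Q h2 one_ne_zero ha]
    simp only [one_mul]

theorem chi_hom (h2 : (2 : F) ≠ 0) (hR : (polarBilin R).Nondegenerate) (f : W →ₗ[F] V)
    (hf : ∀ w, Q (f w) = R w) (J : orthGroup R →* orthGroup Q) (hJ : ∀ a, J (refl R a) = refl Q (f a))
    (g : orthGroup R) : chi Q (J g) = chi R g := by
  classical
  exact hom_comp_eq_of_refl hR (good_of_two_ne h2) J (chi R) (chi Q) (fun a ha => by
    rw [hJ, chi_refl h2 (by rw [hf]; exact ha), chi_refl h2 ha, hf]) g

theorem chi_of_odd (hQ : (polarBilin Q).Nondegenerate) (h2 : (2 : F) ≠ 0) {g : orthGroup Q} {n : ℕ}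
    (hn : Odd n) (hg : g ^ n = 1) : chi Q g = 1 := by
  rw [chi_eq_one_iff hQ h2, Orth.mem_commutator_iff]
  obtain ⟨k, rfl⟩ := hn
  have h := congrArg (Abelianization.of (G := orthGroup Q)) hg
  rwa [map_pow, map_one, pow_succ, pow_mul, pow_two, ab_sq hQ (good_of_two_ne h2) g, one_pow, one_mul] at h

theorem isFinite_orth (Q : QuadraticForm F V) : Finite (orthGroup Q) := by
  haveI : Finite (V ≃ₗ[F] V) := Finite.of_injective (fun e => (e : V → V)) DFunLike.coe_injective
  infer_instance

/-- An orthogonal piece: the homomorphism extending by the identity. -/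
theorem exists_embHom (hQ : (polarBilin Q).Nondegenerate) (hR : (polarBilin R).Nondegenerate) (f : W →ₗ[F] V)
    (hf : ∀ w, Q (f w) = R w) :
    ∃ J : orthGroup R →* orthGroup Q, (∀ g w, (J g).1 (f w) = f (g.1 w)) ∧
      (∀ g x, (∀ w, polar Q x (f w) = 0) → (J g).1 x = x) ∧ (∀ g, chi Q (J g) = chi R g ∨ (2 : F) = 0) ∧
      Function.Injective J := by
  have hpp : ∀ a b, polar Q (f a) (f b) = polar R a b := Orth.polar_of_preserving f hf
  let π : V →ₗ[F] W := (LinearMap.BilinForm.toDual (polarBilin R) hR).symm.toLinearMap.comp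
    (f.dualMap.comp (polarBilin Q))
  have hπ : ∀ x w, polar R (π x) w = polar Q x (f w) := fun x w => by
    rw [← polarBilin_apply_apply]
    simp only [π, LinearMap.comp_apply, LinearEquiv.coe_coe, LinearMap.BilinForm.apply_toDual_symm_apply,
      LinearMap.dualMap_apply, polarBilin_apply_apply]
  have hπ0 : ∀ x, (∀ w, polar Q x (f w) = 0) → π x = 0 := fun x hx => hR.1 _ fun w => by
    rw [polarBilin_apply_apply, hπ]; exact hx w
  have hπf : ∀ w, π (f w) = w := fun w => by
    rw [← sub_eq_zero]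
    exact hR.1 _ fun u => by rw [polarBilin_apply_apply, polar_sub_left, hπ, hpp, sub_self]
  have hperp : ∀ x w, polar Q (x - f (π x)) (f w) = 0 := fun x w => by rw [polar_sub_left, hpp, hπ, sub_self]
  let E : orthGroup R → (V →ₗ[F] V) := fun g => LinearMap.id + f.comp (((g.1 : W →ₗ[F] W) - LinearMap.id).comp π)
  have hE : ∀ g x, E g x = (x - f (π x)) + f (g.1 (π x)) := fun g x => by
    show x + f (g.1 (π x) - π x) = _
    rw [map_sub]; abel
  have hEQ : ∀ g x, Q (E g x) = Q x := fun g x => by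
    rw [hE, quad_add', hf, apply_quad, hperp, add_zero]
    conv_rhs => rw [← sub_add_cancel x (f (π x)), quad_add', hperp, add_zero, hf]
  choose J hJ using fun g => exists_of_preserving hQ (E g) (hEQ g)
  have hJf : ∀ g w, (J g).1 (f w) = f (g.1 w) := fun g w => by rw [hJ, hE, hπf, sub_self, zero_add]
  have hJ0 : ∀ g x, (∀ w, polar Q x (f w) = 0) → (J g).1 x = x := fun g x hx => by
    rw [hJ, hE, hπ0 x hx]; simp
  have hmul : ∀ g h, J (g * h) = J g * J h := fun g h => Subtype.ext <| LinearEquiv.ext fun x => by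
    show (J (g * h)).1 x = (J g).1 ((J h).1 x)
    rw [← sub_add_cancel x (f (π x)), map_add, map_add, hJ0 _ _ (hperp x), hJ0 _ _ (hperp x), hJf, hJf, map_add,
      hJ0 _ _ (hperp x), hJf]
    rfl
  let J' : orthGroup R →* orthGroup Q := MonoidHom.mk' J hmul
  refine ⟨J', hJf, hJ0, fun g => ?_, fun g h e => ?_⟩
  · rcases eq_or_ne (2 : F) 0 with h2 | h2
    · exact Or.inr h2
    refine Or.inl (chi_hom h2 hR f hf J' (fun a => Subtype.ext <| LinearEquiv.ext fun x => ?_) g)
    show (J (refl R a)).1 x = _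
    rw [hJ, hE, refl_apply, refl_apply, map_sub f, map_smul, hf,
      show polar R a (π x) = polar Q (f a) x by rw [polar_comm, hπ, polar_comm]]
    abel
  · refine Subtype.ext (LinearEquiv.ext fun w => Orth.injective_of_preserving hR f hf ?_)
    rw [← hJf, ← hJf]
    exact congrArg (fun j : orthGroup Q => j.1 (f w)) e

/-- Two pieces with orthogonal supports commute. -/
theorem commute_of_supports {g h : orthGroup Q} (X : Submodule F V) (hX : NondegOn (polarBilin Q) X)
    (hg : ∀ x ∈ perp (polarBilin Q) X, g.1 x = x) (hgX : ∀ x ∈ X, g.1 x ∈ X) (hh : ∀ x ∈ X, h.1 x = x) :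
    Commute g h := by
  refine Subtype.ext (LinearEquiv.ext fun v => ?_)
  obtain ⟨x, hx, y, hy, rfl⟩ := Submodule.mem_sup.1 (hX.isCompl.sup_eq_top ▸ Submodule.mem_top (x := v))
  have hy' : h.1 y ∈ perp (polarBilin Q) X := mem_perp.2 fun w hw => by
    rw [polarBilin_apply_apply, ← hh w hw, polar_isom, ← polarBilin_apply_apply]
    exact mem_perp.1 hy w hw
  show g.1 (h.1 (x + y)) = h.1 (g.1 (x + y))
  rw [map_add, map_add, map_add, map_add, hh x hx, hh _ (hgX x hx), hg _ hy', hg y hy]

/-- A piece given by a non-degenerate subspace. -/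
theorem exists_subHom (hQ : (polarBilin Q).Nondegenerate) (h2 : (2 : F) ≠ 0) {X : Submodule F V}
    (hX : NondegOn (polarBilin Q) X) :
    ∃ J : orthGroup (Q.comp X.subtype) →* orthGroup Q, (∀ g (w : X), (J g).1 (w : V) = (g.1 w : X)) ∧
      (∀ g, ∀ x ∈ perp (polarBilin Q) X, (J g).1 x = x) ∧ (∀ g, chi Q (J g) = chi (Q.comp X.subtype) g) ∧
      Function.Injective J := by
  obtain ⟨J, h1, h3, h4, h5⟩ := exists_embHom hQ (OrthInv.comp_nondeg hX) X.subtype (fun w => rfl)
  exact ⟨J, h1, fun g x hx => h3 g x fun w => by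
    rw [polar_comm, ← polarBilin_apply_apply]; exact mem_perp.1 hx _ w.2,
    fun g => (h4 g).resolve_right h2, h5⟩

/-- The fixed space. -/
def fixSub (g : orthGroup Q) : Submodule F V := LinearMap.ker ((g.1 : V →ₗ[F] V) - LinearMap.id)

theorem mem_fixSub {g : orthGroup Q} {x : V} : x ∈ fixSub g ↔ g.1 x = x := by
  simp [fixSub, sub_eq_zero]

theorem pow_fix {g : orthGroup Q} {x : V} (h : g.1 x = x) : ∀ n : ℕ, (g ^ n).1 x = x
  | 0 => rfl
  | n + 1 => by rw [pow_succ]; show (g ^ n).1 (g.1 x) = x; rw [h, pow_fix h n]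

theorem coe_pow_apply (g : orthGroup Q) : ∀ (n : ℕ) (x : V), (g ^ n).1 x = ((g.1 : V →ₗ[F] V) ^ n) x
  | 0, x => rfl
  | n + 1, x => by
    rw [pow_succ, pow_succ, Module.End.mul_apply, ← coe_pow_apply g n]; rfl

theorem fixSub_nondeg (hQ : (polarBilin Q).Nondegenerate) {g : orthGroup Q} {m : ℕ} (hg : g ^ m = 1)
    (hm : (m : F) ≠ 0) : NondegOn (polarBilin Q) (fixSub g) := by
  rw [nondegOn_iff]
  intro x hx hx'
  refine hQ.2 x fun y => ?_
  rw [mem_fixSub] at hx
  have hmem : ∑ i ∈ Finset.range m, (g ^ i).1 y ∈ fixSub g := by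
    rw [mem_fixSub, map_sum]
    have h0 : ∑ i ∈ Finset.range m, (g ^ (i + 1)).1 y + (g ^ 0).1 y =
        ∑ i ∈ Finset.range m, (g ^ i).1 y + (g ^ 0).1 y := by
      rw [← Finset.sum_range_succ' (fun i => (g ^ i).1 y), Finset.sum_range_succ, hg]
      rfl
    refine Eq.trans (Finset.sum_congr rfl fun i _ => ?_) (add_right_cancel h0)
    rw [pow_succ']; rfl
  have h1 := hx' _ hmem
  rw [map_sum, LinearMap.sum_apply, Finset.sum_congr rfl fun i _ => (show polarBilin Q ((g ^ i).1 y) x =
      polarBilin Q y x by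
    conv_lhs => rw [← pow_fix hx i]
    rw [polarBilin_apply_apply, polar_isom]; rfl), Finset.sum_const, Finset.card_range, nsmul_eq_mul] at h1
  exact (mul_eq_zero.1 h1).resolve_left hm

theorem mapsTo_perp {g : orthGroup Q} {X : Submodule F V} (hX : ∀ x ∈ X, g.1 x ∈ X) :
    ∀ x ∈ perp (polarBilin Q) X, g.1 x ∈ perp (polarBilin Q) X := by
  intro x hx
  refine mem_perp.2 fun w hw => ?_
  have hm : X.map (g.1 : V →ₗ[F] V) = X := mem_stab_of_le hX
  obtain ⟨w', hw', rfl⟩ := Submodule.mem_map.1 (hm.symm ▸ hw : w ∈ X.map (g.1 : V →ₗ[F] V))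
  rw [polarBilin_apply_apply]
  show polar Q (g.1 w') (g.1 x) = 0
  rw [polar_isom, ← polarBilin_apply_apply]
  exact mem_perp.1 hx w' hw'

theorem apply_fixSub_of_commute {g h : orthGroup Q} (hc : Commute g h) {x : V} (hx : x ∈ fixSub g) :
    h.1 x ∈ fixSub g := by
  rw [mem_fixSub] at hx ⊢
  show (g * h).1 x = _
  rw [hc.eq]
  show h.1 (g.1 x) = _
  rw [hx]

/-- The restriction to an invariant subspace. -/
noncomputable def resHom (X : Submodule F V) : stab (Q := Q) X →* orthGroup (Q.comp X.subtype) :=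
  MonoidHom.mk' (fun g =>
    ⟨LinearEquiv.ofLinearMap
      ((g.1.1 : V →ₗ[F] V).restrict fun x hx => (show g.1.1 x ∈ X from g.2.le (Submodule.mem_map_of_mem hx)))
      (((g⁻¹).1.1 : V →ₗ[F] V).restrict fun x hx =>
        (show (g⁻¹).1.1 x ∈ X from (g⁻¹).2.le (Submodule.mem_map_of_mem hx)))
      (LinearMap.ext fun x => Subtype.ext (g.1.1.apply_symm_apply x))
      (LinearMap.ext fun x => Subtype.ext (g.1.1.symm_apply_apply x)), fun x => apply_quad g.1 x⟩)
    fun g h => Subtype.ext (LinearEquiv.ext fun x => Subtype.ext rfl)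

theorem resHom_apply (X : Submodule F V) (g : stab (Q := Q) X) (x : X) :
    (((resHom X g).1 x : X) : V) = g.1.1 x := rfl

/-- An isometry without the eigenvalue one. -/
theorem det_of_fixedPointFree (hQ : (polarBilin Q).Nondegenerate) (g : orthGroup Q)
    (hfix : ∀ x, g.1 x = x → x = 0) : LinearMap.det (g.1 : V →ₗ[F] V) = (-1) ^ finrank F V := by
  classical
  set b := Module.finBasis F V
  set A := LinearMap.toMatrix b b (g.1 : V →ₗ[F] V) with hA
  set B := LinearMap.toMatrix b b ((g⁻¹).1 : V →ₗ[F] V) with hB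
  set G := LinearMap.BilinForm.toMatrix b (polarBilin Q) with hG
  have hG0 : G.det ≠ 0 := (LinearMap.BilinForm.nondegenerate_iff_det_ne_zero b).1 hQ
  have hAG : A.transpose * G * A = G := by
    rw [hA, hG, ← LinearMap.BilinForm.toMatrix_comp b b]
    refine congrArg _ (LinearMap.ext fun x => LinearMap.ext fun y => ?_)
    exact polar_isom g x y
  have hAB : A * B = 1 := by
    rw [hA, hB, ← LinearMap.toMatrix_comp, ← LinearMap.toMatrix_id b]
    exact congrArg _ (LinearMap.ext fun x => inv_apply g x)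
  have hd0 : (A - 1).det ≠ 0 := by
    rw [hA, ← LinearMap.toMatrix_id b, ← map_sub, LinearMap.det_toMatrix]
    intro h0
    obtain ⟨x, hx, hx0⟩ := Submodule.exists_mem_ne_zero_of_ne_bot (LinearMap.det_eq_zero_iff_ker_ne_bot.1 h0)
    rw [LinearMap.mem_ker, LinearMap.sub_apply, sub_eq_zero] at hx
    exact hx0 (hfix x hx)
  have h1 : G * (B - 1) = (A.transpose - 1) * G := by
    have : A.transpose * G = G * B := by
      calc A.transpose * G = A.transpose * G * (A * B) := by rw [hAB, mul_one]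
        _ = G * B := by rw [← mul_assoc, hAG]
    rw [mul_sub, mul_one, sub_mul, one_mul, this]
  have h2 : (B - 1).det = (A - 1).det := by
    have := congrArg Matrix.det h1
    rw [Matrix.det_mul, Matrix.det_mul, show A.transpose - 1 = (A - 1).transpose by
      rw [Matrix.transpose_sub, Matrix.transpose_one], Matrix.det_transpose, mul_comm] at this
    exact mul_right_cancel₀ hG0 this
  have h3 : (A * (B - 1)).det = (-(A - 1)).det := by rw [mul_sub, hAB, mul_one, neg_sub]
  rw [Matrix.det_mul, h2, Matrix.det_neg, Fintype.card_fin] at h3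
  rw [← LinearMap.det_toMatrix b, ← hA]
  exact mul_right_cancel₀ hd0 h3

/-- Non-degenerate subspaces of every dimension. -/
theorem exists_nondeg_sub (hQ : (polarBilin Q).Nondegenerate) (h2 : (2 : F) ≠ 0) {k : ℕ} (hk : k ≤ finrank F V) :
    ∃ U : Submodule F V, NondegOn (polarBilin Q) U ∧ finrank F U = k := by
  classical
  rcases Nat.eq_zero_or_pos (finrank F V) with h0 | h0
  · exact ⟨⊥, nondegOn_iff.2 fun x hx _ => (Submodule.mem_bot F).1 hx, by rw [finrank_bot]; omega⟩
  obtain ⟨n, hn⟩ : ∃ n, finrank F V = n + 1 := ⟨finrank F V - 1, by omega⟩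
  obtain ⟨δ, e, hδ, he⟩ := exists_diag h2 hQ hn
  have hkn : k ≤ n + 1 := by omega
  let ι₀ : (Fin k → F) →ₗ[F] (Fin (n + 1) → F) := Function.ExtendByZero.linearMap F (Fin.castLE hkn)
  have hinj : Function.Injective ι₀ := fun x y h => funext fun i => by
    have := congrFun h (Fin.castLE hkn i)
    rwa [Function.ExtendByZero.linearMap_apply, Function.ExtendByZero.linearMap_apply,
      (Fin.castLE_injective hkn).extend_apply, (Fin.castLE_injective hkn).extend_apply] at this
  let T : (Fin k → F) →ₗ[F] V := e.toLinearMap.comp ι₀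
  have hTi : Function.Injective T := e.injective.comp hinj
  have hw : ∀ i : Fin (n + 1), (if i = Fin.last n then δ else 1) ≠ 0 := fun i => by
    split_ifs <;> [exact hδ; exact one_ne_zero]
  have hpol : ∀ (v : Fin (n + 1) → F) i, polar Q (e v) (e (Pi.single i 1)) =
      (if i = Fin.last n then δ else 1) * (2 * v i) := fun v i => by
    simp only [polar, ← map_add, he]
    simp only [diagForm, QuadraticMap.weightedSumSquares_apply, ← Finset.sum_sub_distrib, Pi.add_apply, smul_eq_mul]
    rw [Finset.sum_eq_single i (fun l _ hl => by simp [hl]) (by simp)]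
    simp only [Pi.single_eq_same]
    ring
  refine ⟨LinearMap.range T, nondegOn_iff.2 ?_, by rw [LinearMap.finrank_range_of_inj hTi, finrank_fin_fun]⟩
  rintro _ ⟨x, rfl⟩ hx
  have hx0 : x = 0 := funext fun i => by
    have h3 := hx (e (Pi.single (Fin.castLE hkn i) 1)) ⟨Pi.single i 1, by
      show e (ι₀ (Pi.single i 1)) = _
      congr 1
      funext j
      rw [Function.ExtendByZero.linearMap_apply]
      by_cases hj : ∃ l, Fin.castLE hkn l = j
      · obtain ⟨l, rfl⟩ := hj
        rw [(Fin.castLE_injective hkn).extend_apply]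
        simp [Pi.single_apply, (Fin.castLE_injective hkn).eq_iff]
      · rw [Function.extend_apply' _ _ _ hj, Pi.single_eq_of_ne (fun e => hj ⟨i, e.symm⟩)]
        rfl⟩
    rw [polarBilin_apply_apply, polar_comm] at h3
    change polar Q (e (ι₀ x)) _ = 0 at h3
    rw [hpol, Function.ExtendByZero.linearMap_apply, (Fin.castLE_injective hkn).extend_apply] at h3
    exact (mul_eq_zero.1 ((mul_eq_zero.1 h3).resolve_left (hw _))).resolve_left h2
  rw [hx0, map_zero]

theorem nondegOn_map_subtype {X : Submodule F V} {U : Submodule F X}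
    (hU : NondegOn (polarBilin (Q.comp X.subtype)) U) : NondegOn (polarBilin Q) (U.map X.subtype) := by
  rw [nondegOn_iff] at hU ⊢
  rintro _ ⟨x, hx, rfl⟩ h
  rw [hU x hx fun w hw => by
    rw [OrthInv.polar_comp]
    exact h _ ⟨w, hw, rfl⟩, map_zero]

/-- Non-degenerate subspaces inside a non-degenerate subspace. -/
theorem exists_nondeg_le (h2 : (2 : F) ≠ 0) {X : Submodule F V} (hX : NondegOn (polarBilin Q) X) {k : ℕ}
    (hk : k ≤ finrank F X) : ∃ U ≤ X, NondegOn (polarBilin Q) U ∧ finrank F U = k := by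
  obtain ⟨U, hU, hUd⟩ := exists_nondeg_sub (OrthInv.comp_nondeg hX) h2 hk
  exact ⟨U.map X.subtype, Submodule.map_subtype_le X U, nondegOn_map_subtype hU,
    by rw [← (Submodule.equivMapOfInjective _ X.injective_subtype U).finrank_eq, hUd]⟩

/-- The orthogonal space of a piece inside a non-degenerate subspace. -/
theorem exists_rest (hQ : (polarBilin Q).Nondegenerate) {X U : Submodule F V} (hX : NondegOn (polarBilin Q) X)
    (hU : NondegOn (polarBilin Q) U) (hUX : U ≤ X) :
    ∃ Y ≤ X, NondegOn (polarBilin Q) Y ∧ finrank F U + finrank F Y = finrank F X ∧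
      (∀ u ∈ U, ∀ y ∈ Y, polar Q u y = 0) := by
  have hU' : NondegOn (polarBilin (Q.comp X.subtype)) (U.comap X.subtype) := nondegOn_iff.2 fun x hx h =>
    Subtype.ext (nondegOn_iff.1 hU _ hx fun w hw => by
      have := h ⟨w, hUX hw⟩ hw
      rwa [OrthInv.polar_comp] at this)
  have hn := nondegOn_perp (OrthInv.comp_nondeg hX).2 hU'
  refine ⟨_, Submodule.map_subtype_le X _, nondegOn_map_subtype hn, ?_, ?_⟩
  · rw [← (Submodule.equivMapOfInjective _ X.injective_subtype _).finrank_eq,
      ← (Submodule.comapSubtypeEquivOfLe hUX).finrank_eq]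
    exact hU'.finrank_perp
  · rintro u hu _ ⟨y, hy, rfl⟩
    have := mem_perp.1 hy ⟨u, hUX hu⟩ hu
    rwa [OrthInv.polar_comp] at this

end CfsgLib.OrthSpecNine
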