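import Cfsg.Agent.Lib.Classical.OrthSpectrumNine.Affine
import Cfsg.Agent.Lib.Classical.OrthSpectrumNine.Pieces
import Cfsg.Agent.Lib.Orth.TorusSign
import Cfsg.Agent.Lib.Derangements.OrthUnipotent
import Cfsg.Agent.Lib.Derangements.OrthSingularCount

/-!
Regular unipotent pieces, torus pieces and reflection pairs.
-/

set_option autoImplicit false
set_option linter.unusedSectionVars false

namespace CfsgLib.OrthSpecNine

open Module QuadraticMap CfsgLib.Orth CfsgLib.Classical CfsgLib.Derangements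

variable {F : Type*} [Field F] [Fintype F] {V : Type*} [AddCommGroup V] [Module F V] [FiniteDimensional F V]
  [Finite V] {Q : QuadraticForm F V}

/-- `g` is supported on `Y`. -/
def Supp (g : orthGroup Q) (Y : Submodule F V) : Prop :=
  (∀ x ∈ perp (polarBilin Q) Y, g.1 x = x) ∧ ∀ x ∈ Y, g.1 x ∈ Y

theorem Supp.fix_of_orth {g : orthGroup Q} {Y : Submodule F V} (h : Supp g Y) {x : V}
    (hx : ∀ y ∈ Y, polar Q y x = 0) : g.1 x = x := h.1 x (mem_perp.2 hx)

theorem Supp.pow {g : orthGroup Q} {Y : Submodule F V} (h : Supp g Y) : ∀ n : ℕ, Supp (g ^ n) Y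
  | 0 => ⟨fun _ _ => rfl, fun x hx => hx⟩
  | n + 1 => by
    rw [pow_succ']
    refine ⟨fun x hx => ?_, fun x hx => h.2 _ ((Supp.pow h n).2 x hx)⟩
    show g.1 ((g ^ n).1 x) = x
    rw [(Supp.pow h n).1 x hx, h.1 x hx]

theorem Supp.commute {g h : orthGroup Q} {Y Z : Submodule F V} (hY : NondegOn (polarBilin Q) Y)
    (hg : Supp g Y) (hh : Supp h Z) (ho : ∀ y ∈ Y, ∀ z ∈ Z, polar Q y z = 0) : Commute g h :=
  commute_of_supports Y hY hg.1 hg.2 fun y hy => hh.fix_of_orth fun z hz => by
    rw [polar_comm]; exact ho y hy z hz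

/-- Separating commuting pieces. -/
theorem Supp.pow_eq_one {g h : orthGroup Q} {Y Z : Submodule F V} (hY : NondegOn (polarBilin Q) Y)
    (hg : Supp g Y) (hh : Supp h Z) (ho : ∀ y ∈ Y, ∀ z ∈ Z, polar Q y z = 0) {n : ℕ} (hn : (g * h) ^ n = 1) :
    g ^ n = 1 ∧ h ^ n = 1 := by
  rw [(hg.commute hY hh ho).mul_pow] at hn
  have hgn : g ^ n = 1 := by
    refine Subtype.ext (LinearEquiv.ext fun v => ?_)
    obtain ⟨x, hx, y, hy, rfl⟩ := Submodule.mem_sup.1 (hY.isCompl.sup_eq_top ▸ Submodule.mem_top (x := v))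
    have h1 : (g ^ n).1 x = x := by
      conv_lhs => rw [← (hh.pow n).fix_of_orth (x := x) fun z hz => by rw [polar_comm]; exact ho x hx z hz]
      exact LinearEquiv.congr_fun (congrArg Subtype.val hn) x
    show (g ^ n).1 (x + y) = x + y
    rw [map_add, h1, (hg.pow n).1 y hy]
  exact ⟨hgn, by rwa [hgn, one_mul] at hn⟩

theorem chi_mul_self (hQ : (polarBilin Q).Nondegenerate) (h2 : (2 : F) ≠ 0) (g : orthGroup Q) :
    chi Q g * chi Q g = 1 := by
  rw [← map_mul, chi_eq_one_iff hQ h2, Orth.mem_commutator_iff, map_mul, ab_sq hQ (good_of_two_ne h2)]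

theorem supp_refl {Y : Submodule F V} {a : V} (ha : a ∈ Y) : Supp (Orth.refl Q a) Y :=
  ⟨fun x hx => refl_fix Q (mem_perp.1 hx a ha), fun x hx => by
    rw [refl_apply]; exact Y.sub_mem hx (Y.smul_mem _ ha)⟩

theorem Supp.mul {g h : orthGroup Q} {Y : Submodule F V} (hg : Supp g Y) (hh : Supp h Y) : Supp (g * h) Y :=
  ⟨fun x hx => show g.1 (h.1 x) = x by rw [hh.1 x hx, hg.1 x hx], fun x hx => hg.2 _ (hh.2 x hx)⟩

theorem inf_orth_eq_bot {X : Submodule F V} (hX : NondegOn (polarBilin Q) X) :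
    X ⊓ LinearMap.BilinForm.orthogonal (polarBilin Q) X = ⊥ := by
  rw [Submodule.eq_bot_iff]
  rintro x ⟨hx, hx'⟩
  exact nondegOn_iff.1 hX x hx fun w hw => hx' w hw

theorem exists_value_in (h2 : (2 : F) ≠ 0) {X : Submodule F V} (hX : NondegOn (polarBilin Q) X)
    (hd : 2 ≤ finrank F X) (c : F) : ∃ a ∈ X, Q a = c :=
  Orth.exists_value X (by rw [inf_orth_eq_bot hX, finrank_bot]; omega) c

/-- An element outside the commutator subgroup with determinant one. -/
theorem exists_fixer (hQ : (polarBilin Q).Nondegenerate) (h2 : (2 : F) ≠ 0) {X : Submodule F V}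
    (hX : NondegOn (polarBilin Q) X) (hd : 2 ≤ finrank F X) :
    ∃ g : orthGroup Q, Supp g X ∧ chi Q g = (1, -1) := by
  classical
  obtain ⟨ν, hν⟩ := FiniteField.exists_nonsquare (F := F) fun h => h2 (by
    haveI : CharP F 2 := ringChar.of_eq h; exact CharTwo.two_eq_zero)
  obtain ⟨a, ha, hQa⟩ := exists_value_in h2 hX hd 1
  obtain ⟨b, hb, hQb⟩ := exists_value_in h2 hX hd ν
  refine ⟨Orth.refl Q a * Orth.refl Q b, (supp_refl ha).mul (supp_refl hb), ?_⟩
  rw [map_mul, chi_refl h2 (by rw [hQa]; exact one_ne_zero),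
    chi_refl h2 (by rw [hQb]; exact fun h => hν (h ▸ IsSquare.zero)), if_pos (by rw [hQa]; exact IsSquare.one),
    if_neg (by rw [hQb]; exact hν)]
  simp

/-- An involution in the commutator subgroup. -/
theorem exists_involution (hQ : (polarBilin Q).Nondegenerate) (h2 : (2 : F) ≠ 0) {X : Submodule F V}
    (hX : NondegOn (polarBilin Q) X) (hd : 3 ≤ finrank F X) :
    ∃ g : orthGroup Q, Supp g X ∧ chi Q g = 1 ∧ g * g = 1 ∧ g ≠ 1 := by
  classical
  obtain ⟨a, ha, hQa⟩ := exists_value_in h2 hX (by omega) 1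
  have hline : NondegOn (polarBilin Q) (F ∙ a) := nondegOn_iff.2 fun x hx h => by
    obtain ⟨t, rfl⟩ := Submodule.mem_span_singleton.1 hx
    have h1 := h a (Submodule.mem_span_singleton_self a)
    rw [polarBilin_apply_apply, polar_smul_r', polar_self', hQa, mul_one] at h1
    rw [(mul_eq_zero.1 h1).resolve_right h2, zero_smul]
  obtain ⟨Y, hYX, hY, hYd, hYo⟩ := exists_rest hQ hX hline ((Submodule.span_singleton_le_iff_mem _ _).2 ha)
  rw [finrank_span_singleton (fun h => one_ne_zero (by rw [← hQa, h, QuadraticMap.map_zero]))] at hYd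
  obtain ⟨b, hb, hQb⟩ := exists_value_in h2 hY (by omega) 1
  have hab : polar Q a b = 0 := hYo a (Submodule.mem_span_singleton_self a) b hb
  refine ⟨Orth.refl Q a * Orth.refl Q b, (supp_refl ha).mul (supp_refl (hYX hb)), ?_, ?_, fun h => ?_⟩
  · rw [map_mul, chi_refl h2 (by rw [hQa]; exact one_ne_zero), chi_refl h2 (by rw [hQb]; exact one_ne_zero),
      if_pos (by rw [hQa]; exact IsSquare.one), if_pos (by rw [hQb]; exact IsSquare.one)]
    simp
  · have hc : Orth.refl Q a * Orth.refl Q b = Orth.refl Q b * Orth.refl Q a := by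
      have h1 := conj_refl Q (Orth.refl Q a) b
      rw [refl_fix Q hab, refl_inv] at h1
      calc Orth.refl Q a * Orth.refl Q b = Orth.refl Q a * Orth.refl Q b * (Orth.refl Q a * Orth.refl Q a) := by rw [refl_mul_self, mul_one]
        _ = Orth.refl Q b * Orth.refl Q a := by rw [← mul_assoc, h1]
    calc (Orth.refl Q a * Orth.refl Q b) * (Orth.refl Q a * Orth.refl Q b) = (Orth.refl Q a * Orth.refl Q b) * (Orth.refl Q b * Orth.refl Q a) := by rw [← hc]
      _ = 1 := by rw [mul_assoc, ← mul_assoc (Orth.refl Q b), refl_mul_self, one_mul, refl_mul_self]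
  · have h1 := LinearEquiv.congr_fun (congrArg Subtype.val h) a
    change (Orth.refl Q a).1 ((Orth.refl Q b).1 a) = a at h1
    rw [refl_fix Q (show polar Q b a = 0 by rw [polar_comm]; exact hab),
      refl_self Q (show Q a ≠ 0 by rw [hQa]; exact one_ne_zero)] at h1
    have h3 : (2 : F) • a = 0 := by rw [two_smul]; nth_rewrite 1 [← h1]; rw [neg_add_cancel]
    exact one_ne_zero (by rw [← hQa, (smul_eq_zero.1 h3).resolve_left h2, QuadraticMap.map_zero])

/-- The model of a regular unipotent isometry. -/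
theorem exists_regular_model (h2 : (2 : F) ≠ 0) (m : ℕ) :
    ∃ (R : QuadraticForm F (Fin (2 * m + 1) → F)) (U : Module.End F (Fin (2 * m + 1) → F)),
      (polarBilin R).Nondegenerate ∧ (∀ x, R (U x) = R x) ∧ (U - 1) ^ (2 * m + 1) = 0 ∧
      ∃ v, ((U - 1) ^ (2 * m)) v ≠ 0 := by
  classical
  set k := 2 * m + 1 with hk
  let B : (Fin k → F) →ₗ[F] (Fin k → F) →ₗ[F] F :=
    LinearMap.mk₂ F (fun x y => ∑ i : Fin k, (-1 : F) ^ (i : ℕ) * x i * y i.rev)
      (fun x x' y => by simp [mul_add, add_mul, Finset.sum_add_distrib])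
      (fun c x y => by simp [Finset.mul_sum]; exact Finset.sum_congr rfl fun i _ => by ring)
      (fun x y y' => by simp [mul_add, Finset.sum_add_distrib])
      (fun c x y => by simp [Finset.mul_sum]; exact Finset.sum_congr rfl fun i _ => by ring)
  have hB : ∀ x y, B x y = ∑ i : Fin k, (-1 : F) ^ (i : ℕ) * x i * y i.rev := fun x y => rfl
  have hpar : ∀ i : Fin k, (-1 : F) ^ (i.rev : ℕ) = (-1) ^ (i : ℕ) := fun i => by
    rw [Fin.val_rev]
    have hi := i.2
    rw [← Nat.div_add_mod (k - ((i : ℕ) + 1)) 2, ← Nat.div_add_mod (i : ℕ) 2, pow_add, pow_add, pow_mul, pow_mul,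
      neg_one_sq, one_pow, one_pow]
    congr 2
    omega
  have hsymm : ∀ x y, B x y = B y x := fun x y => by
    rw [hB, hB]
    refine Fintype.sum_equiv Fin.revPerm _ _ fun i => ?_
    simp only [Fin.revPerm_apply, Fin.rev_rev, hpar]
    ring
  set N : Module.End F (Fin k → F) := OrthUnipotent.shift k
  have hN : ∀ x y, B (N x) y + B x (N y) = 0 := by
    intro x y
    rw [hB, hB, Fin.sum_univ_succ (f := fun i : Fin k => (-1 : F) ^ (i : ℕ) * (N x) i * y i.rev),
      Fin.sum_univ_castSucc (f := fun i : Fin k => (-1 : F) ^ (i : ℕ) * x i * (N y) i.rev)]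
    have e0 : (N x) 0 = 0 := by simp [N, OrthUnipotent.shift]
    have e1 : (N y) (Fin.last (2 * m)).rev = 0 := by simp [N, OrthUnipotent.shift, Fin.val_rev, hk]
    rw [e0, e1, mul_zero, zero_mul, zero_add, mul_zero, add_zero, ← Finset.sum_add_distrib]
    refine Finset.sum_eq_zero fun i _ => ?_
    have e2 : (N x) i.succ = x i.castSucc := by
      simp only [N, OrthUnipotent.shift, LinearMap.coe_mk, AddHom.coe_mk, Fin.val_succ]
      rw [dif_pos (by omega)]
      congr 1
    have e3 : (N y) i.castSucc.rev = y i.succ.rev := by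
      simp only [N, OrthUnipotent.shift, LinearMap.coe_mk, AddHom.coe_mk]
      rw [dif_pos (by simp [Fin.val_rev]; omega)]
      congr 1
    rw [e2, e3, Fin.val_succ, Fin.val_castSucc, pow_succ]
    ring
  let R : QuadraticForm F (Fin k → F) := LinearMap.BilinMap.toQuadraticMap B
  have hR : ∀ x, R x = B x x := fun x => rfl
  have hpol : ∀ x y, polar R x y = 2 * B x y := fun x y => by
    simp only [polar, hR, map_add, LinearMap.add_apply, hsymm y x]
    ring
  have hnil : N ^ k = 0 := LinearMap.ext fun x => funext fun i => by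
    rw [OrthUnipotent.shift_pow_apply, dif_neg (by omega)]
    rfl
  obtain ⟨w, hw⟩ : IsUnit (1 - N) := IsNilpotent.isUnit_one_sub ⟨k, hnil⟩
  set U : Module.End F (Fin k → F) := (1 + N) * ↑w⁻¹ with hU
  have hU1 : U - 1 = (2 • N) * ↑w⁻¹ := by
    rw [hU]
    conv_lhs => arg 2; rw [← w.mul_inv, hw]
    rw [← sub_mul]
    congr 1
    rw [two_nsmul]; abel
  have hc : Commute (2 • N) (↑w⁻¹ : Module.End F (Fin k → F)) := by
    refine Commute.units_inv_right ?_
    rw [hw]
    exact ((Commute.one_right N).sub_right (Commute.refl N)).smul_left 2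
  have hUk : ∀ j, (U - 1) ^ j = (2 : F) ^ j • (N ^ j * ↑(w⁻¹ ^ j)) := fun j => by
    rw [hU1, hc.mul_pow, ← Units.val_pow_eq_pow_val,
      show (2 : ℕ) • N = (2 : F) • N by rw [← Nat.cast_smul_eq_nsmul F]; rfl, smul_pow, smul_mul_assoc]
  refine ⟨R, U, nondegenerate_of_left fun x hx => funext fun i => ?_, fun x => ?_, ?_, ?_⟩
  · have h1 := hx (Pi.single i.rev 1)
    rw [hpol, hB, Finset.sum_eq_single i (fun l _ hl => by
      rw [Pi.single_eq_of_ne (fun e => hl (Fin.rev_injective e)), mul_zero]) (by simp)] at h1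
    rw [Pi.single_eq_same, mul_one] at h1
    exact (mul_eq_zero.1 ((mul_eq_zero.1 h1).resolve_left h2)).resolve_left (pow_ne_zero _ (by norm_num))
  · set y := (↑w⁻¹ : Module.End F (Fin k → F)) x
    have hy : (1 - N) y = x := by
      rw [← hw, ← Module.End.mul_apply, w.mul_inv]; rfl
    have h0 : B (N y) y = 0 := by
      refine (mul_eq_zero.1 (show (2 : F) * B (N y) y = 0 from ?_)).resolve_left h2
      have := hN y y
      rw [hsymm y (N y)] at this
      linear_combination this
    show R ((1 + N) y) = R x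
    rw [← hy, hR, hR]
    simp only [LinearMap.add_apply, LinearMap.sub_apply, Module.End.one_apply, map_add, map_sub, hsymm y (N y), h0]
    ring
  · rw [hUk, hnil, zero_mul, smul_zero]
  · refine ⟨((w ^ (2 * m) : (Module.End F (Fin k → F))ˣ) : Module.End F (Fin k → F)) (Pi.single 0 1), ?_⟩
    rw [hUk, LinearMap.smul_apply, ← Module.End.mul_apply, mul_assoc, inv_pow, Units.inv_mul, mul_one]
    intro h
    have h1 := congrFun ((smul_eq_zero.1 h).resolve_left (pow_ne_zero _ h2)) (Fin.last (2 * m))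
    rw [OrthUnipotent.shift_pow_apply, dif_pos (by simp)] at h1
    simp only [Fin.val_last, Nat.sub_self, Pi.zero_apply] at h1
    rw [show (⟨0, by omega⟩ : Fin k) = 0 from rfl, Pi.single_eq_same] at h1
    exact one_ne_zero h1

/-- A regular unipotent piece. -/
theorem exists_regular (hQ : (polarBilin Q).Nondegenerate) (h2 : (2 : F) ≠ 0) {X : Submodule F V}
    (hX : NondegOn (polarBilin Q) X) (m : ℕ) (hd : 2 * m + 1 ≤ finrank F X) :
    ∃ u : orthGroup Q, Supp u X ∧ ((u.1 : V →ₗ[F] V) - 1 : Module.End F V) ^ (2 * m + 1) = 0 ∧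
      ∃ v ∈ X, (((u.1 : V →ₗ[F] V) - 1 : Module.End F V) ^ (2 * m)) v ≠ 0 := by
  classical
  obtain ⟨Y, hYX, hY, hYd⟩ := exists_nondeg_le h2 hX hd
  obtain ⟨R, U, hR, hRU, hUk, v₀, hv₀⟩ := exists_regular_model (F := F) h2 m
  obtain ⟨α, φ, hα, hφ⟩ := OrthInv.exists_odd_iso (OrthInv.comp_nondeg hY) hYd
  obtain ⟨β, ψ, hβ, hψ⟩ := OrthInv.exists_odd_iso hR (e := m) (finrank_fin_fun F)
  let e : (Fin (2 * m + 1) → F) ≃ₗ[F] Y := ψ.symm.trans φ
  have he : ∀ x, Q (e x : V) = α / β * R x := fun x => by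
    obtain ⟨y, rfl⟩ := ψ.surjective x
    rw [hψ]
    show Q (φ (ψ.symm (ψ y)) : V) = _
    rw [ψ.symm_apply_apply, show Q (φ y : V) = α * oddForm F m y from hφ y]
    field_simp
  let w : Module.End F Y := e.conjAlgEquiv F U
  have hwe : ∀ x, w (e x) = e (U x) := fun x => by
    simp [w, LinearEquiv.conjAlgEquiv_apply]
  obtain ⟨g, hg⟩ := exists_of_preserving (OrthInv.comp_nondeg hY) w fun y => by
    obtain ⟨x, rfl⟩ := e.surjective y
    show Q (w (e x) : V) = Q (e x : V)
    rw [hwe, he, he, hRU]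
  obtain ⟨J, hJ1, hJ2, -, -⟩ := exists_subHom hQ h2 hY
  set u := J g
  have hpow : ∀ j x, (((u.1 : V →ₗ[F] V) - 1 : Module.End F V) ^ j) (e x : V) = (e (((U - 1 : Module.End F _) ^ j) x) : V) := by
    intro j
    induction j with
    | zero => intro x; rfl
    | succ j ih =>
      intro x
      rw [pow_succ, Module.End.mul_apply, LinearMap.sub_apply, Module.End.one_apply, LinearEquiv.coe_coe, hJ1, hg,
        hwe, ← Submodule.coe_sub, ← map_sub, pow_succ, Module.End.mul_apply]
      exact ih _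
  refine ⟨u, ⟨fun x hx => hJ2 g x (perp_antitone hYX hx), fun x hx => ?_⟩, LinearMap.ext fun z => ?_,
    (e v₀ : V), hYX (e v₀).2, ?_⟩
  · obtain ⟨y, hy, z, hz, rfl⟩ := Submodule.mem_sup.1 (hY.isCompl.sup_eq_top ▸ Submodule.mem_top (x := x))
    rw [map_add, hJ2 g z hz, show (u.1 y) = _ from hJ1 g ⟨y, hy⟩]
    exact X.add_mem (hYX (g.1 _).2) (by simpa using X.sub_mem hx (hYX hy))
  · obtain ⟨y, hy, z', hz', rfl⟩ := Submodule.mem_sup.1 (hY.isCompl.sup_eq_top ▸ Submodule.mem_top (x := z))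
    obtain ⟨x, hx⟩ := e.surjective ⟨y, hy⟩
    have hy' : y = (e x : V) := by rw [hx]
    rw [map_add, LinearMap.zero_apply, hy', hpow, hUk, LinearMap.zero_apply, map_zero, pow_succ, Module.End.mul_apply,
      LinearMap.sub_apply, Module.End.one_apply, LinearEquiv.coe_coe, hJ2 g z' hz', sub_self, map_zero]
    simp
  · rw [hpow]
    exact fun h => hv₀ (e.map_eq_zero_iff.1 (Subtype.ext h))

/-- A generator of a torus as a model. -/
theorem exists_torus_model (h2 : (2 : F) ≠ 0) (K : Type*) [Field K] [Fintype K] [Algebra F K] {d : K} (hd : d ≠ 0) :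
    ∃ (R : QuadraticForm F (K × K)) (φ : K →ₗ[F] F) (T : orthGroup R) (N : ℕ),
      φ ≠ 0 ∧ (∀ p, R p = φ (qnorm d p)) ∧ (polarBilin R).Nondegenerate ∧ chi R T = (1, -1) ∧ 0 < N ∧ Even N ∧
      (∀ x, x ≠ 0 → ∀ n : ℕ, (T ^ n).1 x = x ↔ N ∣ n) ∧
      (d = 1 → N = Fintype.card K - 1) ∧ (¬ IsSquare d → N = Fintype.card K + 1) := by
  classical
  haveI : FiniteDimensional F K := Module.Finite.of_finite
  have h2K : (2 : K) ≠ 0 := by
    rw [← map_ofNat (algebraMap F K) 2]; exact (map_ne_zero _).2 h2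
  obtain ⟨φ, hφ1, -⟩ := Submodule.exists_dual_map_eq_bot_of_notMem (p := (⊥ : Submodule F K)) (x := 1)
    (by simp) inferInstance
  have hφ : φ ≠ 0 := fun h => hφ1 (by rw [h]; rfl)
  let B : (K × K) →ₗ[F] (K × K) →ₗ[F] F := LinearMap.mk₂ F (fun p q => φ (p.1 * q.1 - d * (p.2 * q.2)))
    (fun p p' q => by rw [← map_add]; congr 1; simp only [Prod.fst_add, Prod.snd_add]; ring)
    (fun c p q => by
      rw [← map_smul, Prod.smul_fst, Prod.smul_snd]
      congr 1
      simp only [Algebra.smul_def]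
      ring)
    (fun p q q' => by rw [← map_add]; congr 1; simp only [Prod.fst_add, Prod.snd_add]; ring)
    (fun c p q => by
      rw [← map_smul, Prod.smul_fst, Prod.smul_snd]
      congr 1
      simp only [Algebra.smul_def]
      ring)
  let R : QuadraticForm F (K × K) := LinearMap.BilinMap.toQuadraticMap B
  have hR : ∀ p, R p = φ (qnorm d p) := fun p => by
    show φ (p.1 * p.1 - d * (p.2 * p.2)) = _
    congr 1
    simp only [qnorm]; ring
  have hpol : ∀ p q, polar R p q = φ (2 * (p.1 * q.1 - d * (p.2 * q.2))) := fun p q => by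
    simp only [polar, hR, ← map_sub]
    congr 1
    simp only [qnorm, Prod.fst_add, Prod.snd_add]; ring
  have hnd : (polarBilin R).Nondegenerate := by
    refine nondegenerate_of_left fun p hp => ?_
    have key : ∀ z : K, (∀ y, φ (z * y) = 0) → z = 0 := fun z hz => by
      by_contra h
      exact hφ1 (by have := hz z⁻¹; rwa [mul_inv_cancel₀ h] at this)
    refine Prod.ext ((mul_eq_zero.1 (key (2 * p.1) fun y => ?_)).resolve_left h2K)
      ((mul_eq_zero.1 (key (2 * d * p.2) fun y => ?_)).resolve_left (mul_ne_zero h2K hd))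
    · have := hp (y, 0)
      rw [hpol] at this
      convert this using 2
      ring
    · have := hp (0, -y)
      rw [hpol] at this
      convert this using 2
      ring
  obtain ⟨w₀, N, hw₀, hN0, hNe, hiff, hgen⟩ := exists_generator h2K hd
  let f : (K × K) →ₗ[F] (K × K) :=
    { toFun := qmul d w₀
      map_add' := fun p q => by refine Prod.ext ?_ ?_ <;> simp only [qmul, Prod.fst_add, Prod.snd_add] <;> ring
      map_smul' := fun c p => by
        refine Prod.ext ?_ ?_ <;>
          simp only [qmul, RingHom.id_apply] <;>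
          rw [Prod.smul_fst, Prod.smul_snd] <;>
          (try rw [Prod.smul_fst]) <;> (try rw [Prod.smul_snd]) <;>
          simp only [Algebra.smul_def] <;> ring }
  obtain ⟨T, hT⟩ := exists_of_preserving hnd f fun p => by
    show R (qmul d w₀ p) = R p
    rw [hR, hR, qnorm_qmul, hw₀, one_mul]
  have hTp : ∀ (n : ℕ) p, (T ^ n).1 p = qmul d (qpow d w₀ n) p := fun n p => by
    induction n with
    | zero => rw [pow_zero, qpow, qmul_one']; rfl
    | succ n ih =>
      rw [pow_succ', qpow, qmul_assoc, ← ih]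
      exact hT _
  have hper : ∀ x, x ≠ 0 → ∀ n : ℕ, (T ^ n).1 x = x ↔ N ∣ n := fun x hx n => by
    rw [hTp, ← hiff]
    exact ⟨qmul_fixed h2K hd (qnorm_qpow d hw₀ n) hx, fun h => by rw [h, qmul_one']⟩
  have hcard : Nat.card {p : K × K // qnorm d p = 1} = N := by
    have hb : Function.Bijective (fun m : Fin N => (⟨qpow d w₀ m.1, qnorm_qpow d hw₀ m.1⟩ :
        {p : K × K // qnorm d p = 1})) :=
      ⟨fun a b h => Fin.ext (qpow_inj hiff hw₀ a.2 b.2 (congrArg Subtype.val h)), fun ⟨p, hp⟩ => by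
        obtain ⟨m, hm, hmp⟩ := hgen p hp
        exact ⟨⟨m, hm⟩, Subtype.ext hmp⟩⟩
    rw [← Nat.card_eq_of_bijective _ hb, Nat.card_fin]
  obtain ⟨v, w, hvd, hvc, hvj, -, -⟩ := exists_torus_twist R hnd h2 hd hφ LinearMap.id hR
  have hw : qnorm d w = 1 := by
    have h1 : ∀ t : K, φ ((qnorm d w - 1) * t) = 0 := fun t => by
      obtain ⟨p, rfl⟩ := exists_qnorm h2K hd t
      have h := apply_quad v (LinearMap.id (R := F) p)
      rw [hvj, hR, hR] at h
      rw [sub_mul, one_mul, map_sub, sub_eq_zero, ← qnorm_qmul]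
      exact h
    by_contra hne
    exact hφ1 (by
      have := h1 (qnorm d w - 1)⁻¹
      rwa [mul_inv_cancel₀ (sub_ne_zero.2 hne)] at this)
  obtain ⟨i, -, hi⟩ := hgen w hw
  have hvT : v = T ^ i := Subtype.ext (LinearEquiv.ext fun p => by
    rw [hTp, hi]; exact hvj p)
  have hv : chi R v = (1, -1) := by
    have h1 : (chi R v).1 = 1 := Units.ext (by
      show ((LinearEquiv.det v.1 : Fˣ) : F) = 1
      rw [LinearEquiv.coe_det, hvd])
    refine Prod.ext h1 ((Int.units_eq_one_or _).resolve_left fun h => hvc ?_)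
    exact (chi_eq_one_iff hnd h2 v).1 (Prod.ext h1 h)
  refine ⟨R, φ, T, N, hφ, hR, hnd, ?_, hN0, hNe, hper, ?_, ?_⟩
  · rw [hvT, map_pow] at hv
    rcases Nat.even_or_odd i with ⟨l, hl⟩ | ⟨l, hl⟩
    · rw [hl, pow_add, ← mul_pow, chi_mul_self hnd h2, one_pow] at hv
      have hne : (1 : ℤˣ) ≠ -1 := by decide
      exact absurd (congrArg Prod.snd hv) hne
    · rw [hl, pow_succ, pow_mul, pow_two, chi_mul_self hnd h2, one_pow, one_mul] at hv
      exact hv
  · rintro rfl
    rw [← hcard, Fintype.card_eq_nat_card, ← Nat.card_units]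
    refine Nat.card_congr
      { toFun := fun p => ⟨p.1.1 + p.1.2, p.1.1 - p.1.2,
          by linear_combination (norm := (simp only [qnorm]; ring)) p.2,
          by linear_combination (norm := (simp only [qnorm]; ring)) p.2⟩
        invFun := fun u => ⟨(((u : K) + ↑u⁻¹) / 2, ((u : K) - ↑u⁻¹) / 2), by
          simp only [qnorm]
          have := u.mul_inv
          field_simp
          linear_combination 4 * this⟩
        left_inv := fun p => Subtype.ext (Prod.ext (by simp; field_simp; ring) (by simp; field_simp; ring))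
        right_inv := fun u => Units.ext (by simp; field_simp; ring) }
  · intro hns
    have hne : ∀ p : K × K, p ≠ 0 → qnorm d p ≠ 0 := by
      rintro ⟨x, y⟩ hp h
      simp only [qnorm] at h
      rcases eq_or_ne y 0 with rfl | hy
      · exact hp (by simpa using h)
      · exact hns ⟨x / y, by field_simp; linear_combination -h⟩
    let ν : {p : K × K // p ≠ 0} → {t : K // t ≠ 0} := fun p => ⟨qnorm d p.1, hne p.1 p.2⟩
    have hfib : ∀ t, Nat.card {p : {p : K × K // p ≠ 0} // ν p = t} = N := by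
      rintro ⟨t, ht⟩
      obtain ⟨p₀, hp₀⟩ := exists_qnorm h2K hd t
      have hinv : qmul d (p₀.1 / t, -p₀.2 / t) p₀ = (1, 0) := by
        simp only [qnorm] at hp₀
        refine Prod.ext ?_ ?_ <;> simp only [qmul] <;> field_simp
        · linear_combination hp₀
        · ring
      have hni : qnorm d (p₀.1 / t, -p₀.2 / t) * t = 1 := by
        have := congrArg (qnorm d) hinv
        rw [qnorm_qmul, hp₀] at this
        rw [this]; simp [qnorm]
      have hinv' : qmul d p₀ (p₀.1 / t, -p₀.2 / t) = (1, 0) := by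
        rw [← hinv]; refine Prod.ext ?_ ?_ <;> simp only [qmul] <;> ring
      rw [← hcard]
      refine Nat.card_congr
        { toFun := fun p => ⟨qmul d p.1.1 (p₀.1 / t, -p₀.2 / t), by
            rw [qnorm_qmul, show qnorm d p.1.1 = t from congrArg Subtype.val p.2, mul_comm]; exact hni⟩
          invFun := fun p => ⟨⟨qmul d p.1 p₀, fun h => ht (by
            have := congrArg (qnorm d) h
            rw [qnorm_qmul, p.2, one_mul, hp₀] at this
            simpa [qnorm] using this)⟩, Subtype.ext (by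
            show qnorm d (qmul d p.1 p₀) = t
            rw [qnorm_qmul, p.2, one_mul, hp₀])⟩
          left_inv := fun p => Subtype.ext (Subtype.ext (by
            show qmul d (qmul d p.1.1 _) p₀ = p.1.1
            rw [qmul_assoc, hinv]
            refine Prod.ext ?_ ?_ <;> simp [qmul]))
          right_inv := fun p => Subtype.ext (by
            show qmul d (qmul d p.1 p₀) _ = p.1
            rw [qmul_assoc, hinv']
            refine Prod.ext ?_ ?_ <;> simp [qmul]) }
    have h := Nat.card_congr (Equiv.sigmaFiberEquiv ν)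
    rw [Nat.card_sigma, Finset.sum_congr rfl fun t _ => hfib t, Finset.sum_const, Finset.card_univ, smul_eq_mul,
      Nat.card_eq_fintype_card, Fintype.card_subtype_compl, Fintype.card_subtype_compl, Fintype.card_subtype_eq,
      Fintype.card_subtype_eq, Fintype.card_prod] at h
    have hQ2 : 2 ≤ Fintype.card K := Fintype.one_lt_card
    refine Nat.eq_of_mul_eq_mul_left (show 0 < Fintype.card K - 1 by omega) ?_
    rw [h, mul_comm (Fintype.card K - 1) (_ + 1), ← Nat.sq_sub_sq (Fintype.card K) 1, pow_two, one_pow]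

/-- An embedded piece. -/
theorem exists_piece_in {W : Type*} [AddCommGroup W] [Module F W] [FiniteDimensional F W] [Finite W]
    {R : QuadraticForm F W} (hQ : (polarBilin Q).Nondegenerate) (h2 : (2 : F) ≠ 0) {X : Submodule F V}
    (hX : NondegOn (polarBilin Q) X) (hR : (polarBilin R).Nondegenerate) {e : ℕ} (hW : finrank F W = 2 * e)
    (h : 2 * e + 2 ≤ finrank F X ∨ (2 * e = finrank F X ∧ (OrthInv.PlusOn R ⊤ ↔ OrthInv.PlusOn Q X))) :
    ∃ (Y : Submodule F V) (J : orthGroup R →* orthGroup Q), Y ≤ X ∧ NondegOn (polarBilin Q) Y ∧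
      finrank F Y = 2 * e ∧ (OrthInv.PlusOn Q Y ↔ OrthInv.PlusOn R ⊤) ∧
      (∀ g, Supp (J g) Y ∧ chi Q (J g) = chi R g) ∧ Function.Injective J := by
  obtain ⟨T, hT⟩ := OrthInv.exists_embed (Q := Q.comp X.subtype) (OrthInv.comp_nondeg hX) hR hW (by
    rcases h with h | ⟨h1, h3⟩
    · exact Or.inl h
    · refine Or.inr (Or.inr ⟨h1, h3.trans ?_⟩)
      rw [OrthInv.plusOn_iff (e := e) h1.symm, OrthInv.plusOn_top_iff h1.symm])
  set f := X.subtype.comp T
  have hf : ∀ w, Q (f w) = R w := fun w => hT w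
  obtain ⟨hn, hrd, hp⟩ := OrthInv.range_facts hR f hf
  obtain ⟨J, h1, h3, h4, h5⟩ := exists_embHom hQ hR f hf
  refine ⟨LinearMap.range f, J, ?_, hn, by rw [hrd, hW], hp,
    fun g => ⟨⟨fun x hx => h3 g x fun w => by rw [polar_comm]; exact mem_perp.1 hx _ ⟨w, rfl⟩, ?_⟩,
      (h4 g).resolve_right h2⟩, h5⟩
  · rintro _ ⟨w, rfl⟩; exact (T w).2
  · rintro _ ⟨w, rfl⟩; exact ⟨g.1 w, (h1 g w).symm⟩

end CfsgLib.OrthSpecNine
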