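import Cfsg.Agent.Lib.Classical.OrthSpectrumNine.PlusSide

/-!
The orders in `Ω₉(q)` and in `V ⋊ Ω₈⁻(q)` divide each other.
-/

set_option autoImplicit false
set_option linter.unusedSectionVars false

namespace CfsgLib.OrthSpecNine

open Module QuadraticMap CfsgLib.Orth CfsgLib.Classical CfsgLib.Derangements

variable {F : Type*} [Field F] [Fintype F] {V : Type*} [AddCommGroup V] [Module F V] [FiniteDimensional F V]
  [Finite V] {Q : QuadraticForm F V} {W : Type*} [AddCommGroup W] [Module F W] [FiniteDimensional F W] [Finite W]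
  {R : QuadraticForm F W}

theorem fixSub_stab {s g : orthGroup Q} (hc : Commute s g) :
    g ∈ stab (Q := Q) (fixSub s) ∧ g ∈ stab (Q := Q) (perp (polarBilin Q) (fixSub s)) := by
  have h : ∀ x ∈ fixSub s, g.1 x ∈ fixSub s := fun x hx => apply_fixSub_of_commute hc hx
  exact ⟨mem_stab_of_le h, mem_stab_of_le (mapsTo_perp h)⟩

/-- An isometry is determined by its pieces. -/
theorem ext_pieces {g h : orthGroup Q} {X : Submodule F V} (hX : NondegOn (polarBilin Q) X)
    (h1 : ∀ x ∈ X, g.1 x = h.1 x) (h3 : ∀ x ∈ perp (polarBilin Q) X, g.1 x = h.1 x) : g = h := by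
  refine Subtype.ext (LinearEquiv.ext fun v => ?_)
  obtain ⟨x, hx, y, hy, rfl⟩ := Submodule.mem_sup.1 (hX.isCompl.sup_eq_top ▸ Submodule.mem_top (x := v))
  rw [map_add, map_add, h1 x hx, h3 y hy]

/-- A power of `u - 1` on a subspace bounds its dimension. -/
theorem succ_le_of_pow {u : orthGroup Q} {X : Submodule F V} (hu : ∀ x ∈ X, u.1 x ∈ X) {n k : ℕ}
    (hn : ((u.1 : V →ₗ[F] V) - 1 : Module.End F V) ^ n = 0) {x : V} (hx : x ∈ X)
    (hk : (((u.1 : V →ₗ[F] V) - 1 : Module.End F V) ^ k) x ≠ 0) : k + 1 ≤ finrank F X := by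
  set N : Module.End F X := ((u.1 : V →ₗ[F] V) - 1 : Module.End F V).restrict fun y hy => X.sub_mem (hu y hy) hy
  have hpw : ∀ (j : ℕ) (y : X), ((N ^ j) y : V) = (((u.1 : V →ₗ[F] V) - 1 : Module.End F V) ^ j) y := fun j => by
    induction j with
    | zero => exact fun y => rfl
    | succ j ih => intro y; rw [pow_succ, pow_succ, Module.End.mul_apply, Module.End.mul_apply, ih]; rfl
  have h0 : N ^ k ≠ 0 := fun h => hk (by rw [← hpw k ⟨x, hx⟩, h]; rfl)
  have h1 := rank_pow_add_le N (n := n) (LinearMap.ext fun y => Subtype.ext (by rw [hpw, hn]; rfl)) k h0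
  have h3 : finrank F (LinearMap.range (N ^ k)) ≠ 0 := fun h =>
    h0 (LinearMap.range_eq_bot.1 (Submodule.finrank_eq_zero.1 h))
  omega

/-- The moved part of a regular element with trivial invariant. -/
theorem moved_part (hQ : (polarBilin Q).Nondegenerate) (h2 : (2 : F) ≠ 0) {s : orthGroup Q} {m : ℕ}
    (hm : s ^ m = 1) (hmF : (m : F) ≠ 0) (hs : chi Q s = 1) :
    NondegOn (polarBilin Q) (fixSub s) ∧ NondegOn (polarBilin Q) (perp (polarBilin Q) (fixSub s)) ∧
      Even (finrank F (perp (polarBilin Q) (fixSub s))) ∧ Supp s (perp (polarBilin Q) (fixSub s)) ∧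
      finrank F (fixSub s) + finrank F (perp (polarBilin Q) (fixSub s)) = finrank F V ∧
      ∀ x ∈ perp (polarBilin Q) (fixSub s), s.1 x = x → x = 0 := by
  have hW := fixSub_nondeg hQ hm hmF
  set W := fixSub s
  have hX := nondegOn_perp hQ.2 hW
  have hfree : ∀ x ∈ perp (polarBilin Q) W, s.1 x = x → x = 0 := fun x hx h =>
    Submodule.disjoint_def.1 hW x (mem_fixSub.2 h) hx
  have hX' : ∀ x ∈ perp (polarBilin Q) (perp (polarBilin Q) W), x ∈ W := fun x hx => by
    obtain ⟨a, ha, b, hb, rfl⟩ := Submodule.mem_sup.1 (hW.isCompl.sup_eq_top ▸ Submodule.mem_top (x := x))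
    have hb0 : b = 0 := nondegOn_iff.1 hX b hb fun w hw => by
      have h1 := mem_perp.1 hx w hw
      rw [map_add, show polarBilin Q w a = 0 by
        rw [polarBilin_apply_apply, polar_comm]; exact mem_perp.1 hw a ha, zero_add] at h1
      exact h1
    rw [hb0, add_zero]; exact ha
  have hsupp : Supp s (perp (polarBilin Q) W) :=
    ⟨fun x hx => mem_fixSub.1 (hX' x hx), mapsTo_perp fun x hx => apply_fixSub_of_commute (Commute.refl s) hx⟩
  refine ⟨hW, hX, ?_, hsupp, hW.finrank_perp, hfree⟩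
  obtain ⟨J, hJ1, hJ2, hJ3, -⟩ := exists_subHom hQ h2 hX
  set s' := resHom _ ⟨s, (fixSub_stab (Commute.refl s)).2⟩
  have hJs : J s' = s := ext_pieces hX (fun x hx => by rw [hJ1 s' ⟨x, hx⟩]; rfl)
    (fun x hx => by rw [hJ2 s' x hx, hsupp.1 x hx])
  have hd := det_of_fixedPointFree (OrthInv.comp_nondeg hX) s' fun x h =>
    Subtype.ext (hfree x x.2 (congrArg Subtype.val h))
  have hchi : chi (Q.comp (perp (polarBilin Q) W).subtype) s' = 1 := by rw [← hJ3, hJs]; exact hs
  have hdet : LinearMap.det (s'.1 : perp (polarBilin Q) W →ₗ[F] perp (polarBilin Q) W) = 1 := by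
    have := congrArg (fun x : Fˣ × ℤˣ => ((x.1 : Fˣ) : F)) hchi
    simpa [chi] using this
  rw [hdet] at hd
  rcases Nat.even_or_odd (finrank F (perp (polarBilin Q) W)) with h | h
  · exact h
  · rw [h.neg_one_pow] at hd
    exact absurd (by linear_combination hd : (2 : F) = 0) h2

variable (p : ℕ) [hp : Fact p.Prime] [CharP F p]

theorem sub_one_pow_eq_zero_iff (u : orthGroup Q) (j : ℕ) :
    ((u.1 : V →ₗ[F] V) - 1 : Module.End F V) ^ p ^ j = 0 ↔ u ^ p ^ j = 1 := by
  rw [sub_one_pow p, sub_eq_zero]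
  exact ⟨fun h => Subtype.ext (LinearEquiv.ext fun x => by rw [coe_pow_apply, h]; rfl),
    fun h => LinearMap.ext fun x => by rw [← coe_pow_apply, h]; rfl⟩

omit hp [CharP F p] in
theorem sum_blocks (h : orthGroup Q) (v : V) {N : ℕ} (hN : h ^ N = 1) : ∀ t,
    ∑ i ∈ Finset.range (N * t), (h ^ i).1 v = t • ∑ i ∈ Finset.range N, (h ^ i).1 v
  | 0 => by simp
  | t + 1 => by
    rw [mul_add, mul_one, Finset.sum_range_add, sum_blocks h v hN t, succ_nsmul]
    congr 1
    refine Finset.sum_congr rfl fun i _ => ?_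
    rw [pow_add, pow_mul, hN, one_pow, one_mul]

include p hp in
/-- Every element of `V ⋊ Ω(Q)` in dimension eight is matched in dimension nine. -/
theorem up (hQ : (polarBilin Q).Nondegenerate) (hR : (polarBilin R).Nondegenerate) (h2 : (2 : F) ≠ 0)
    (hV : finrank F V = 9) (hW : finrank F W = 8) (h : orthGroup R) (hh : chi R h = 1) (v : W) :
    ∃ g : orthGroup Q, chi Q g = 1 ∧ ∀ n : ℕ, g ^ n = 1 →
      h ^ n = 1 ∧ ∑ i ∈ Finset.range n, (h ^ i).1 v = 0 := by
  classical
  haveI := isFinite_orth R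
  obtain ⟨f, hf⟩ := OrthInv.exists_embed (Q := Q) hQ hR (e := 4) (by rw [hW]) (Or.inr (Or.inl ⟨by rw [hV], h2⟩))
  obtain ⟨J, hJ1, hJ2, hJ3, hJi⟩ := exists_embHom hQ hR f hf
  have hJc : ∀ x, chi Q (J x) = chi R x := fun x => (hJ3 x).resolve_right h2
  set N := orderOf h with hN
  by_cases hzero : ∑ i ∈ Finset.range N, (h ^ i).1 v = 0
  · refine ⟨J h, (hJc h).trans hh, fun n hn => ?_⟩
    rw [← map_pow] at hn
    have hn' := hJi (hn.trans (map_one J).symm)
    obtain ⟨t, rfl⟩ := orderOf_dvd_of_pow_eq_one hn'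
    exact ⟨hn', by rw [sum_blocks h v (pow_orderOf_eq_one h), hzero, smul_zero]⟩
  obtain ⟨a, b, e, hord, hub, hprod, hnd⟩ := exists_parts hp.out h (isOfFinOrder_of_finite h)
  set s := h ^ a
  set u := h ^ b
  set m := orderOf s
  have hmF : (m : F) ≠ 0 := fun h0 => hnd ((CharP.cast_eq_zero_iff F p m).1 h0)
  have hcsu : Commute s u := Commute.pow_pow (Commute.refl h) a b
  have hs1 : chi R s = 1 := by rw [map_pow, hh, one_pow]
  obtain ⟨hWn, hXn, hXe, hsX, hdim, -⟩ := moved_part hR h2 (pow_orderOf_eq_one s) hmF hs1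
  have huP : u ^ p ^ e = 1 := by rw [← hub]; exact pow_orderOf_eq_one u
  obtain ⟨z, hz, hzne⟩ := exists_fixed_block (F := F) p (h.1 : W →ₗ[F] W) (s.1 : W →ₗ[F] W) (u.1 : W →ₗ[F] W)
    (LinearMap.ext fun x => LinearEquiv.congr_fun (congrArg Subtype.val hcsu.eq) x)
    (LinearMap.ext fun x => LinearEquiv.congr_fun (congrArg Subtype.val hprod) x)
    (m := m) (j := e) (LinearMap.ext fun x => by rw [← coe_pow_apply, pow_orderOf_eq_one]; rfl)
    (LinearMap.ext fun x => by rw [← coe_pow_apply, huP]; rfl) hnd v (fun h0 => hzero (by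
      rw [hN, hord, ← h0]
      exact Finset.sum_congr rfl fun i _ => coe_pow_apply h i v))
  have hp2 : Odd p := hp.out.odd_of_ne_two (char_ne_two (F := F) p h2)
  have hPodd : Odd (p ^ e) := hp2.pow
  have hWdim : p ^ e - 1 + 1 ≤ finrank F (fixSub s) :=
    succ_le_of_pow (u := u) (fun x hx => apply_fixSub_of_commute hcsu hx) ((sub_one_pow_eq_zero_iff p u e).2 huP)
      (mem_fixSub.2 hz) hzne
  -- the regular part in dimension nine
  set s₉ := J s
  have hs9m : s₉ ^ m = 1 := by rw [← map_pow, pow_orderOf_eq_one, map_one]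
  obtain ⟨hX9, -, -, hs9X, hdim9, -⟩ := moved_part hQ h2 hs9m hmF ((hJc s).trans hs1)
  set X' := (perp (polarBilin R) (fixSub s)).map f
  have hX'n : NondegOn (polarBilin Q) X' := nondegOn_iff.2 (by
    rintro _ ⟨w, hw, rfl⟩ hx
    rw [nondegOn_iff.1 hXn w hw fun w' hw' => by
      rw [polarBilin_apply_apply, ← Orth.polar_of_preserving f hf]
      exact hx _ ⟨w', hw', rfl⟩, map_zero])
  have hX'd : finrank F X' = finrank F (perp (polarBilin R) (fixSub s)) :=
    ((Submodule.equivMapOfInjective f (Orth.injective_of_preserving hR f hf) _).finrank_eq).symm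
  have hle : perp (polarBilin Q) X' ≤ fixSub s₉ := fun x hx => by
    rw [mem_fixSub]
    obtain ⟨rn, hrn⟩ : ∃ w, ∀ w', polar Q x (f w') = polar R w w' :=
      ⟨(LinearMap.BilinForm.toDual (polarBilin R) hR).symm ((polarBilin Q x).comp f), fun w' => by
        rw [← polarBilin_apply_apply (Q := R), LinearMap.BilinForm.apply_toDual_symm_apply]
        rfl⟩
    have hrW : s.1 rn = rn := hsX.fix_of_orth fun y hy => by
      rw [polar_comm, ← hrn, polar_comm]
      exact mem_perp.1 hx _ ⟨y, hy, rfl⟩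
    conv_rhs => rw [← sub_add_cancel x (f rn)]
    conv_lhs => rw [← sub_add_cancel x (f rn)]
    rw [map_add, hJ1, hrW, hJ2 s _ fun w => by
      rw [polar_sub_left, hrn, Orth.polar_of_preserving f hf, sub_self]]
  have hd9 : p ^ e + 2 ≤ finrank F (fixSub s₉) := by
    have h3 := Submodule.finrank_mono hle
    have h4 := hX'n.finrank_perp
    have := Nat.one_le_pow e p hp.out.pos
    obtain ⟨c, hc⟩ := hXe
    obtain ⟨c', hc'⟩ := hPodd
    omega
  obtain ⟨l, hl⟩ := hPodd
  obtain ⟨u₉, hu₉, hu₉k, v₉, -, hv₉⟩ := exists_regular hQ h2 hX9 (l + 1) (by omega)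
  have hkle : 2 * (l + 1) + 1 ≤ p ^ (2 * (l + 1) + 1) := (Nat.lt_pow_self hp.out.one_lt).le
  have hu9p : u₉ ^ p ^ (2 * (l + 1) + 1) = 1 := (sub_one_pow_eq_zero_iff p u₉ _).1 (by
    rw [← Nat.sub_add_cancel hkle, pow_add, hu₉k, mul_zero])
  have hu9P : u₉ ^ p ^ e ≠ 1 := fun h0 => hv₉ (by
    rw [show 2 * (l + 1) = 1 + p ^ e by omega, pow_add, (sub_one_pow_eq_zero_iff p u₉ e).2 h0, mul_zero]
    rfl)
  have ho : ∀ y ∈ perp (polarBilin Q) (fixSub s₉), ∀ z ∈ fixSub s₉, polar Q y z = 0 := fun y hy z hz => by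
    rw [polar_comm]; exact mem_perp.1 hy z hz
  refine ⟨s₉ * u₉, ?_, fun n hn => ?_⟩
  · rw [map_mul, hJc, hs1, one_mul]
    exact chi_of_odd hQ h2 (hp2.pow) hu9p
  obtain ⟨hn1, hn2⟩ := hs9X.pow_eq_one (nondegOn_perp hQ.2 hX9) hu₉ ho hn
  have hm : m ∣ n := orderOf_dvd_of_pow_eq_one (hJi (by rw [map_pow]; exact hn1.trans (map_one J).symm))
  obtain ⟨j, -, hj⟩ := (Nat.dvd_prime_pow hp.out).1 (orderOf_dvd_of_pow_eq_one hu9p)
  have hje : e < j := by
    by_contra hje
    exact hu9P (orderOf_dvd_iff_pow_eq_one.1 (hj ▸ pow_dvd_pow p (by omega)))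
  have hpe : p ^ (e + 1) ∣ n := (pow_dvd_pow p hje).trans (hj ▸ orderOf_dvd_of_pow_eq_one hn2)
  obtain ⟨t, rfl⟩ : N * p ∣ n := by
    rw [hN, hord, mul_assoc, ← pow_succ]
    exact ((Nat.Coprime.pow_right _ ((hp.out.coprime_iff_not_dvd).2 hnd).symm)).mul_dvd_of_dvd_of_dvd hm hpe
  refine ⟨by rw [mul_assoc, pow_mul, pow_orderOf_eq_one, one_pow], ?_⟩
  rw [mul_assoc, sum_blocks h v (pow_orderOf_eq_one h), ← Nat.cast_smul_eq_nsmul F, Nat.cast_mul, CharP.cast_eq_zero F p,
    zero_mul, zero_smul]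

include p hp in
/-- Every element of `Ω₉` is matched in `V ⋊ Ω(R)`. -/
theorem down (hQ : (polarBilin Q).Nondegenerate) (hR : (polarBilin R).Nondegenerate) (h2 : (2 : F) ≠ 0)
    (hV : finrank F V = 9) (hW : finrank F W = 8) (hM : ¬ OrthInv.PlusOn R ⊤) (g : orthGroup Q)
    (hg : chi Q g = 1) : Reach R (orderOf g) := by
  classical
  haveI := isFinite_orth Q
  obtain ⟨a, b, e, hord, hub, hprod, hnd⟩ := exists_parts hp.out g (isOfFinOrder_of_finite g)
  set s := g ^ a
  set u := g ^ b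
  set m := orderOf s with hm_def
  have hmF : (m : F) ≠ 0 := fun h0 => hnd ((CharP.cast_eq_zero_iff F p m).1 h0)
  have hcsu : Commute s u := Commute.pow_pow (Commute.refl g) a b
  have hs1 : chi Q s = 1 := by rw [map_pow, hg, one_pow]
  obtain ⟨hWn, hXn, hXe, hsX, hdim, hfree⟩ := moved_part hQ h2 (pow_orderOf_eq_one s) hmF hs1
  have huP : u ^ p ^ e = 1 := by rw [← hub]; exact pow_orderOf_eq_one u
  set X := perp (polarBilin Q) (fixSub s)
  obtain ⟨K, hK1, hK2, hK3, hKi⟩ := exists_subHom hQ h2 hXn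
  set res := resHom (Q := Q) X
  set sS : stab (Q := Q) X := ⟨s, (fixSub_stab (Commute.refl s)).2⟩
  set uS : stab (Q := Q) X := ⟨u, (fixSub_stab hcsu).2⟩
  set s' := res sS
  set u' := res uS
  have hKs : K s' = s := ext_pieces hXn (fun x hx => by rw [hK1 s' ⟨x, hx⟩]; rfl)
    (fun x hx => by rw [hK2 s' x hx, hsX.1 x hx])
  have hchis : chi _ s' = 1 := by rw [← hK3, hKs]; exact hs1
  have hu'P : u' ^ p ^ e = 1 := by
    rw [← map_pow, show uS ^ p ^ e = 1 from Subtype.ext huP, map_one]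
  have hp2 : Odd p := hp.out.odd_of_ne_two (char_ne_two (F := F) p h2)
  have hchiu : chi _ u' = 1 := chi_of_odd (OrthInv.comp_nondeg hXn) h2 hp2.pow hu'P
  have hords : orderOf s' = m := by
    rw [hm_def, ← hKs, orderOf_injective K hKi]
  have hcs'u' : Commute s' u' := (show Commute sS uS from Subtype.ext hcsu.eq).map res
  obtain ⟨d, hd⟩ := hXe
  have hWodd : Odd (finrank F (fixSub s)) := ⟨4 - d, by omega⟩
  -- an embedding of the moved part and the two ways to finish
  have full : ∀ (J : orthGroup (Q.comp X.subtype) →* orthGroup R), Function.Injective J →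
      (∀ x, chi R (J x) = chi _ x) → orderOf u' = p ^ e → Reach R (orderOf g) := fun J hJi hJc hu' => by
    refine reach_of_pow (h := J (s' * u')) (by rw [hJc, map_mul, hchis, hchiu, one_mul]) fun n hn => ?_
    rw [← map_pow] at hn
    have hn' := orderOf_dvd_of_pow_eq_one (hJi (hn.trans (map_one J).symm))
    rwa [hcs'u'.orderOf_mul_eq_mul_orderOf_of_coprime (by
      rw [hords, hu']; exact Nat.Coprime.pow_right _ ((hp.out.coprime_iff_not_dvd).2 hnd).symm),
      hords, hu', ← hord] at hn'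
  have hufix : ∀ x ∈ fixSub s, u.1 x ∈ fixSub s := fun x hx => apply_fixSub_of_commute hcsu hx
  by_cases hw : 3 ≤ finrank F (fixSub s)
  · obtain ⟨Y, J, -, hY, hYd, -, hJ, hJi⟩ := exists_piece_in (R := Q.comp X.subtype) hR h2 (nondegOn_top hR)
      (OrthInv.comp_nondeg hXn) (e := d) (by omega) (Or.inl (by rw [finrank_top, hW]; omega))
    have hJc := fun x => (hJ x).2
    by_cases hu' : orderOf u' = p ^ e
    · exact full J hJi hJc hu'
    obtain ⟨j, hj, hj'⟩ := (Nat.dvd_prime_pow hp.out).1 (orderOf_dvd_of_pow_eq_one hu'P)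
    obtain ⟨e, rfl⟩ : ∃ e', e = e' + 1 := ⟨e - 1, by
      rcases Nat.eq_zero_or_pos e with rfl | h0
      · exact absurd (show orderOf u' = p ^ 0 by rw [hj', show j = 0 by omega]) hu'
      · omega⟩
    have hje : j ≤ e := Nat.le_of_lt_succ (lt_of_le_of_ne hj fun h0 => hu' (by rw [hj', h0]))
    have hu'k : u' ^ p ^ e = 1 := orderOf_dvd_iff_pow_eq_one.1 (hj' ▸ pow_dvd_pow p hje)
    have huk : u ^ p ^ e ≠ 1 := fun h0 => by
      have h3 := orderOf_dvd_of_pow_eq_one h0
      rw [hub] at h3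
      exact absurd (Nat.le_of_dvd (pow_pos hp.out.pos e) h3)
        (not_le.2 (Nat.pow_lt_pow_right hp.out.one_lt (lt_add_one e)))
    obtain ⟨x, hx, hxk⟩ : ∃ x ∈ fixSub s, (u ^ p ^ e).1 x ≠ x := by
      by_contra hall
      push Not at hall
      refine huk (ext_pieces hWn (fun x hx => by rw [hall x hx]; rfl) fun x hx => ?_)
      have := congrArg (fun j : orthGroup (Q.comp X.subtype) => ((j.1 ⟨x, hx⟩ : X) : V)) hu'k
      rw [← map_pow] at this
      exact this
    have hk1 := succ_le_of_pow (u := u) hufix ((sub_one_pow_eq_zero_iff p u _).2 huP) (k := p ^ e) hx (by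
      rw [sub_one_pow p, LinearMap.sub_apply, ← coe_pow_apply, Module.End.one_apply]
      exact sub_ne_zero.2 hxk)
    obtain ⟨l, hl⟩ := (hp2.pow : Odd (p ^ e))
    obtain ⟨c, hc⟩ := hWodd
    have hYf := hY.finrank_perp
    obtain ⟨v₀, hv₀, hv₀k, v, hv, hvne⟩ := exists_regular hR h2 (nondegOn_perp hR.2 hY) l (by omega)
    rw [show 2 * l + 1 = p ^ e by omega] at hv₀k
    rw [show 2 * l = p ^ e - 1 by omega] at hvne
    have hv1 : chi R v₀ = 1 := chi_of_odd hR h2 (hp2.pow) ((sub_one_pow_eq_zero_iff p v₀ e).1 hv₀k)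
    have ho : ∀ y ∈ Y, ∀ z ∈ perp (polarBilin R) Y, polar R y z = 0 := fun y hy z hz => mem_perp.1 hz y hy
    rw [hord]
    refine reach_of_block p (h := J s' * v₀) (by rw [map_mul, hJc, hchis, hv1, one_mul]) v₀ v (fun i => ?_)
      hv₀k hvne (fun n hn => ?_) hnd
    · induction i with
      | zero => rfl
      | succ i ih =>
        rw [pow_succ', pow_succ']
        show (J s').1 (v₀.1 (((J s' * v₀) ^ i).1 v)) = v₀.1 ((v₀ ^ i).1 v)
        rw [ih, (hJ s').1.1 _ (hv₀.2 _ ((hv₀.pow i).2 v hv))]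
    · have h3 := ((hJ s').1.pow_eq_one hY hv₀ ho hn).1
      rw [← map_pow] at h3
      rw [← hords]
      exact orderOf_dvd_of_pow_eq_one (hJi (h3.trans (map_one J).symm))
  -- the fixed space is a line
  obtain ⟨c, hc⟩ := hWodd
  have hw1 : finrank F (fixSub s) = 1 := by omega
  obtain rfl : d = 4 := by omega
  have huW : ∀ x ∈ fixSub s, u.1 x = x := fun x hx => by
    by_contra hne
    have := succ_le_of_pow (u := u) hufix ((sub_one_pow_eq_zero_iff p u _).2 huP) (k := 1) hx (by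
      rw [pow_one]; exact sub_ne_zero.2 hne)
    omega
  have hKu : K u' = u := by
    refine ext_pieces hWn (fun x hx => ?_) fun x hx => by rw [hK1 u' ⟨x, hx⟩]; rfl
    rw [hK2 u' x (mem_perp.2 fun w hw => by rw [polarBilin_apply_apply, polar_comm]; exact mem_perp.1 hw x hx),
      huW x hx]
  have hu' : orderOf u' = p ^ e := by rw [← hub, ← hKu, orderOf_injective K hKi]
  have hXd : finrank F X = 8 := by omega
  by_cases hplus : OrthInv.PlusOn Q X
  swap
  · have hplus' : ¬ OrthInv.PlusOn (Q.comp X.subtype) ⊤ := fun h => hplus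
      ((OrthInv.plusOn_iff (e := 4) (by omega)).2 ((OrthInv.plusOn_top_iff (d := 4) (by omega)).1 h))
    obtain ⟨Y, J, -, -, -, -, hJ, hJi⟩ := exists_piece_in (R := Q.comp X.subtype) hR h2 (nondegOn_top hR)
      (OrthInv.comp_nondeg hXn) (e := 4) (by omega) (Or.inr ⟨by rw [finrank_top, hW], iff_of_false hplus' hM⟩)
    exact full J hJi (fun x => (hJ x).2) hu'
  rcases EvenForms.dichotomy (OrthInv.comp_nondeg hXn) (d := 4) (by omega) with ⟨-, E, hE⟩ | ⟨hE, -⟩
  swap
  · exact absurd ((OrthInv.plusOn_iff (e := 4) (by omega)).1 hplus) hE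
  obtain ⟨J, hJ1, -, hJ3, hJi⟩ := exists_embHom (Q := plusForm F 4) (R := Q.comp X.subtype) (plusForm_nondeg 4)
    (OrthInv.comp_nondeg hXn) E.symm.toLinearMap fun w => by
      rw [LinearEquiv.coe_coe, ← hE, E.apply_symm_apply]
  have h8 := plus_side p h2 hR hW hM (J s') (J u') (hcs'u'.map J)
    ((hJ3 s').resolve_right h2 |>.trans hchis) (fun x hx => by
      obtain ⟨w, rfl⟩ := E.symm.surjective x
      have h3 : E.symm (s'.1 w) = E.symm w := (hJ1 s' w).symm.trans hx
      rw [show w = 0 from Subtype.ext (hfree w w.2 (congrArg Subtype.val (E.symm.injective h3))), map_zero])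
    (by rw [orderOf_injective J hJi, hords]; exact hnd) (e := e) (by rw [orderOf_injective J hJi, hu'])
  rw [orderOf_injective J hJi, hords, ← hord] at h8
  exact h8

end CfsgLib.OrthSpecNine
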