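import Mathlib

/-!
Multisets of eight roots closed under inversion and a Frobenius map.
-/

set_option autoImplicit false
set_option linter.unusedSectionVars false

namespace CfsgLib.OrthSpecNine

variable {L : Type*} [Field L]

/-- The standing hypotheses. -/
structure RootSet (Λ : Multiset L) (q : ℕ) : Prop where
  card : Multiset.card Λ = 8
  frob : Λ.map (fun a => a ^ q) = Λ
  inv : Λ.map (fun a => a⁻¹) = Λ
  inj : Function.Injective fun a : L => a ^ q
  sub : ∀ a b : L, (a - b) ^ q = a ^ q - b ^ q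
  one : (1 : L) ∉ Λ
  zero : (0 : L) ∉ Λ
  odd : Odd q
  three : 3 ≤ q
  two : (2 : L) ≠ 0

variable {Λ : Multiset L} {q : ℕ}

/-- The representatives. -/
def reps (a : L) (q i : ℕ) : Multiset L := (Multiset.range i).map fun k => a ^ q ^ k

/-- An orbit with its representatives. -/
structure Orb (Λ : Multiset L) (q : ℕ) (a : L) (O : Finset L) : Prop where
  mem : a ∈ O
  closed : ∀ b ∈ O, b ^ q ∈ O ∧ b⁻¹ ∈ O
  back : ∀ S : Finset L, (∀ b ∈ S, b ^ q ∈ S ∧ b⁻¹ ∈ S) → ∀ x ∈ O, x ∈ S → a ∈ S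
  count [DecidableEq L] : ∀ b ∈ O, Λ.count b = Λ.count a
  pow : ∀ b ∈ O, ∀ n : ℕ, a ^ n = 1 → b ^ n = 1

namespace RootSet

variable (H : RootSet Λ q)
include H

theorem count_frob [DecidableEq L] (a : L) : Λ.count (a ^ q) = Λ.count a := by
  conv_lhs => rw [← H.frob]
  exact Multiset.count_map_eq_count' _ Λ H.inj a

theorem count_inv [DecidableEq L] (a : L) : Λ.count a⁻¹ = Λ.count a := by
  conv_lhs => rw [← H.inv]
  exact Multiset.count_map_eq_count' _ Λ inv_injective a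

theorem count_qpow [DecidableEq L] (a : L) : ∀ k, Λ.count (a ^ q ^ k) = Λ.count a
  | 0 => by rw [pow_zero, pow_one]
  | k + 1 => by rw [pow_succ, pow_mul, H.count_frob, count_qpow a k]

theorem mem_qpow {a : L} (ha : a ∈ Λ) (k : ℕ) : a ^ q ^ k ∈ Λ := by
  classical
  rw [← Multiset.count_pos, H.count_qpow, Multiset.count_pos]
  exact ha

theorem qpow_inj (k : ℕ) : Function.Injective fun a : L => a ^ q ^ k := by
  induction k with
  | zero => intro a b h; simpa using h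
  | succ k ih =>
    intro a b h
    simp only [pow_succ, pow_mul] at h
    exact ih (H.inj h)

theorem exists_period {a : L} (ha : a ∈ Λ) :
    ∃ d, 1 ≤ d ∧ a ^ q ^ d = a ∧ ∀ i j, i < d → j < d → a ^ q ^ i = a ^ q ^ j → i = j := by
  classical
  have hex : ∃ d, 1 ≤ d ∧ a ^ q ^ d = a := by
    have hni : ¬ Function.Injective fun k : ℕ => (⟨a ^ q ^ k, Multiset.mem_toFinset.2 (H.mem_qpow ha k)⟩ : Λ.toFinset) :=
      not_injective_infinite_finite _
    rw [Function.not_injective_iff] at hni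
    obtain ⟨i, j, h, hij⟩ := hni
    have h' : a ^ q ^ i = a ^ q ^ j := congrArg Subtype.val h
    wlog hle : i < j generalizing i j
    · exact this j i h.symm hij.symm h'.symm (by omega)
    refine ⟨j - i, by omega, H.qpow_inj i ?_⟩
    show (a ^ q ^ (j - i)) ^ q ^ i = a ^ q ^ i
    rw [← pow_mul, ← pow_add, Nat.sub_add_cancel hle.le, h']
  refine ⟨Nat.find hex, (Nat.find_spec hex).1, (Nat.find_spec hex).2, fun i j hi hj h => ?_⟩
  wlog hle : i ≤ j generalizing i j
  · exact (this j i hj hi h.symm (by omega)).symm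
  by_contra hne
  refine Nat.find_min hex (show j - i < Nat.find hex by omega) ⟨by omega, H.qpow_inj i ?_⟩
  show (a ^ q ^ (j - i)) ^ q ^ i = a ^ q ^ i
  rw [← pow_mul, ← pow_add, Nat.sub_add_cancel hle, h]

theorem eq_neg_one_of_inv {a : L} (ha : a ∈ Λ) (h : a = a⁻¹) : a = -1 := by
  have ha0 : a ≠ 0 := fun h0 => H.zero (h0 ▸ ha)
  have : (a - 1) * (a + 1) = 0 := by linear_combination mul_inv_cancel₀ ha0 + a * h
  exact eq_neg_of_add_eq_zero_left
    ((mul_eq_zero.1 this).resolve_left fun h1 => H.one (sub_eq_zero.1 h1 ▸ ha))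

/-- The orbit of a root. -/
theorem classify {a : L} (ha : a ∈ Λ) :
    ∃ O : Finset L, Orb Λ q a O ∧
      ((a = -1 ∧ O.card = 1) ∨
        ∃ i, 1 ≤ i ∧ O.card = 2 * i ∧ O.val = reps a q i + (reps a q i).map (fun b => b⁻¹) ∧
          (a ^ q ^ i = a⁻¹ ∨ a ^ q ^ i = a)) := by
  classical
  obtain ⟨d, hd, hper, hinj⟩ := H.exists_period ha
  have ha0 : a ≠ 0 := fun h0 => H.zero (h0 ▸ ha)
  by_cases h1 : a = -1
  · subst h1
    refine ⟨{-1}, ⟨Finset.mem_singleton_self _, fun b hb => ?_, fun S _ x hx hxS => ?_, fun b hb => ?_,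
      fun b hb n hn => ?_⟩, Or.inl ⟨rfl, Finset.card_singleton _⟩⟩
    · rw [Finset.mem_singleton.1 hb, H.odd.neg_one_pow, inv_neg_one]; simp
    · rwa [Finset.mem_singleton.1 hx] at hxS
    · rw [Finset.mem_singleton.1 hb]
    · rwa [Finset.mem_singleton.1 hb]
  -- the number of representatives
  obtain ⟨i, hi1, hrel, hnd⟩ : ∃ i, 1 ≤ i ∧ (a ^ q ^ i = a⁻¹ ∨ a ^ q ^ i = a) ∧
      (reps a q i + (reps a q i).map (fun b => b⁻¹)).Nodup := by
    by_cases hs : ∃ j, j < d ∧ a ^ q ^ j = a⁻¹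
    · obtain ⟨j, hjd, hj⟩ := hs
      have hj0 : j ≠ 0 := fun h0 => h1 (H.eq_neg_one_of_inv ha (by rwa [h0, pow_zero, pow_one] at hj))
      have h2j : a ^ q ^ (j + j) = a := by rw [pow_add, pow_mul, hj, inv_pow, hj, inv_inv]
      have hdj : d = j + j := by
        rcases Nat.lt_trichotomy (j + j) d with h | h | h
        · have := hinj (j + j) 0 h (by omega) (by rw [h2j, pow_zero, pow_one])
          omega
        · exact h.symm
        · have e : a ^ q ^ (j + j - d) = a := by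
            have : a ^ q ^ (j + j - d) = (a ^ q ^ d) ^ q ^ (j + j - d) := by rw [hper]
            rw [this, ← pow_mul, ← pow_add, Nat.add_sub_cancel' h.le, h2j]
          have := hinj (j + j - d) 0 (by omega) (by omega) (by rw [e, pow_zero, pow_one])
          omega
      refine ⟨j, by omega, Or.inl hj, ?_⟩
      have e : reps a q j + (reps a q j).map (fun b => b⁻¹) = reps a q d := by
        rw [hdj, reps, reps, Multiset.range_add, Multiset.map_add, Multiset.map_map, Multiset.map_map]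
        congr 1
        refine Multiset.map_congr rfl fun k _ => ?_
        simp only [Function.comp_def]
        rw [pow_add, pow_mul, hj, inv_pow]
      rw [e]
      exact (Multiset.nodup_range d).map_on fun x hx y hy h =>
        hinj x y (Multiset.mem_range.1 hx) (Multiset.mem_range.1 hy) h
    · push Not at hs
      refine ⟨d, hd, Or.inr hper, ?_⟩
      have hn : (reps a q d).Nodup := (Multiset.nodup_range d).map_on fun x hx y hy h =>
        hinj x y (Multiset.mem_range.1 hx) (Multiset.mem_range.1 hy) h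
      refine Multiset.nodup_add.2 ⟨hn, hn.map inv_injective, Multiset.disjoint_left.2 fun {x} hx hx' => ?_⟩
      obtain ⟨k, hk, rfl⟩ := Multiset.mem_map.1 hx
      obtain ⟨y, hy, hyx⟩ := Multiset.mem_map.1 hx'
      obtain ⟨l, hl, rfl⟩ := Multiset.mem_map.1 hy
      rw [Multiset.mem_range] at hk hl
      -- shift back to the first representative
      rcases Nat.le_total l k with h | h
      · refine hs (k - l) (by omega) (H.qpow_inj l ?_)
        show (a ^ q ^ (k - l)) ^ q ^ l = a⁻¹ ^ q ^ l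
        rw [← pow_mul, ← pow_add, Nat.sub_add_cancel h, inv_pow, hyx]
      · refine hs (l - k) (by omega) (H.qpow_inj k ?_)
        show (a ^ q ^ (l - k)) ^ q ^ k = a⁻¹ ^ q ^ k
        rw [← pow_mul, ← pow_add, Nat.sub_add_cancel h, inv_pow, ← hyx, inv_inv]
  set O : Finset L := ⟨_, hnd⟩
  have hmem : ∀ b, b ∈ O ↔ ∃ k < i, b = a ^ q ^ k ∨ b = (a ^ q ^ k)⁻¹ := fun b => by
    rw [show b ∈ O ↔ b ∈ reps a q i + (reps a q i).map (fun b => b⁻¹) from Iff.rfl]
    simp only [reps, Multiset.mem_add, Multiset.mem_map, Multiset.mem_range]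
    constructor
    · rintro (⟨k, hk, rfl⟩ | ⟨_, ⟨k, hk, rfl⟩, rfl⟩)
      · exact ⟨k, hk, Or.inl rfl⟩
      · exact ⟨k, hk, Or.inr rfl⟩
    · rintro ⟨k, hk, rfl | rfl⟩
      · exact Or.inl ⟨k, hk, rfl⟩
      · exact Or.inr ⟨_, ⟨k, hk, rfl⟩, rfl⟩
  refine ⟨O, ⟨(hmem a).2 ⟨0, hi1, Or.inl (by rw [pow_zero, pow_one])⟩, fun b hb => ?_, fun S hS x hx hxS => ?_,
    fun b hb => ?_, fun b hb n hn => ?_⟩, Or.inr ⟨i, hi1, ?_, rfl, hrel⟩⟩
  · obtain ⟨k, hk, hb⟩ := (hmem b).1 hb
    refine ⟨(hmem _).2 ?_, (hmem _).2 ⟨k, hk, ?_⟩⟩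
    · rcases Nat.lt_or_ge (k + 1) i with h | h
      · refine ⟨k + 1, h, ?_⟩
        rcases hb with rfl | rfl <;> [left; right] <;> simp [pow_succ, pow_mul, inv_pow]
      · refine ⟨0, hi1, ?_⟩
        have : k + 1 = i := by omega
        rw [pow_zero, pow_one]
        rcases hrel with hr | hr <;> rcases hb with rfl | rfl <;>
          simp only [inv_pow, ← pow_mul, ← pow_succ, this, hr, inv_inv, true_or, or_true]
    · rcases hb with rfl | rfl <;> [right; left] <;> simp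
  · have hup : ∀ (m : ℕ) (y : L), y ∈ S → y ^ q ^ m ∈ S := fun m => by
      induction m with
      | zero => intro y hy; simpa using hy
      | succ m ih => intro y hy; rw [pow_succ, pow_mul]; exact (hS _ (ih y hy)).1
    obtain ⟨k, hk, hb⟩ := (hmem x).1 hx
    have h2 : a ^ q ^ k ∈ S := by
      rcases hb with rfl | rfl
      · exact hxS
      · simpa using (hS _ hxS).2
    have h3 := hup (i - k) _ h2
    rw [← pow_mul, ← pow_add, Nat.add_sub_cancel' hk.le] at h3
    rcases hrel with hr | hr <;> rw [hr] at h3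
    · simpa using (hS _ h3).2
    · exact h3
  · obtain ⟨k, -, hb⟩ := (hmem b).1 hb
    rcases hb with rfl | rfl
    · exact H.count_qpow a k
    · rw [H.count_inv]; exact H.count_qpow a k
  · obtain ⟨k, -, hb⟩ := (hmem b).1 hb
    rcases hb with rfl | rfl
    · rw [← pow_mul, mul_comm, pow_mul, hn, one_pow]
    · rw [inv_pow, ← pow_mul, mul_comm, pow_mul, hn, one_pow, inv_one]
  · show Multiset.card (reps a q i + _) = _
    simp [reps, two_mul]

theorem card_le [DecidableEq L] {a : L} {O : Finset L} (hO : Orb Λ q a O) : Λ.count a * O.card ≤ 8 := by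
  rw [← H.card, mul_comm, ← smul_eq_mul]
  refine le_trans ?_ (Multiset.sum_count_eq_card (s := O ∪ Λ.toFinset) (m := Λ)
    (fun x hx => Finset.mem_union_right _ (Multiset.mem_toFinset.2 hx))).le
  rw [← Finset.sum_const]
  exact le_trans (Finset.sum_le_sum fun b hb => (hO.count b hb).ge) (Finset.sum_le_sum_of_subset Finset.subset_union_left)

theorem orb_disjoint {a b : L} {O O' : Finset L} (hO : Orb Λ q a O) (hO' : Orb Λ q b O') (hb : b ∉ O) :
    Disjoint O O' :=
  Finset.disjoint_left.2 fun _ hx hx' => hb (hO'.back O hO.closed _ hx' hx)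

theorem card_two [DecidableEq L] {a b : L} {O O' : Finset L} (hO : Orb Λ q a O) (hO' : Orb Λ q b O') (hb : b ∉ O) :
    Λ.count a * O.card + Λ.count b * O'.card ≤ 8 := by
  have hd := H.orb_disjoint hO hO' hb
  rw [← H.card, mul_comm, ← smul_eq_mul, mul_comm, ← smul_eq_mul, ← Finset.sum_const, ← Finset.sum_const]
  refine le_trans (add_le_add (Finset.sum_le_sum fun x hx => (hO.count x hx).ge)
    (Finset.sum_le_sum fun x hx => (hO'.count x hx).ge)) ?_
  rw [← Finset.sum_union hd]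
  exact le_trans (Finset.sum_le_sum_of_subset (Finset.subset_union_left (s₂ := Λ.toFinset)))
    (Multiset.sum_count_eq_card (fun x hx => Finset.mem_union_right _ (Multiset.mem_toFinset.2 hx))).le

theorem card_three [DecidableEq L] {a b c : L} {O O' O'' : Finset L} (hO : Orb Λ q a O) (hO' : Orb Λ q b O')
    (hO'' : Orb Λ q c O'') (hb : b ∉ O) (hc : c ∉ O) (hc' : c ∉ O') :
    Λ.count a * O.card + Λ.count b * O'.card + Λ.count c * O''.card ≤ 8 := by
  have h1 := H.orb_disjoint hO hO' hb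
  have h2 := H.orb_disjoint hO hO'' hc
  have h3 := H.orb_disjoint hO' hO'' hc'
  rw [← H.card]
  calc Λ.count a * O.card + Λ.count b * O'.card + Λ.count c * O''.card
      = ∑ x ∈ O, Λ.count a + ∑ x ∈ O', Λ.count b + ∑ x ∈ O'', Λ.count c := by
        simp only [Finset.sum_const, smul_eq_mul]; ring
    _ = ∑ x ∈ O, Λ.count x + ∑ x ∈ O', Λ.count x + ∑ x ∈ O'', Λ.count x := by
        congr 1; congr 1
        all_goals exact Finset.sum_congr rfl fun x hx => (Orb.count (by assumption) x hx).symm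
    _ = ∑ x ∈ O ∪ O' ∪ O'', Λ.count x := by
        rw [Finset.sum_union (Finset.disjoint_union_left.2 ⟨h2, h3⟩), Finset.sum_union h1]
    _ ≤ ∑ x ∈ O ∪ O' ∪ O'' ∪ Λ.toFinset, Λ.count x := Finset.sum_le_sum_of_subset Finset.subset_union_left
    _ = Multiset.card Λ :=
        Multiset.sum_count_eq_card fun x hx => Finset.mem_union_right _ (Multiset.mem_toFinset.2 hx)

theorem eq_of_le_card {m : Finset L} (hm : ∀ x ∈ m, x ∈ Λ) (hc : 8 ≤ m.card) : Λ = m.val :=
  (Multiset.eq_of_le_of_card_le ((Multiset.le_iff_subset m.nodup).2 hm) (by rw [H.card]; exact hc)).symm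

theorem mem_orb {a b : L} {O : Finset L} (ha : a ∈ Λ) (hO : Orb Λ q a O) (hb : b ∈ O) : b ∈ Λ := by
  classical
  rw [← Multiset.count_pos, hO.count b hb, Multiset.count_pos]
  exact ha

omit H in
/-- The product over the representatives. -/
theorem rep_prod (H : RootSet Λ q) {a : L} {i : ℕ} :
    ((reps a q i).map fun b => b - b⁻¹).prod ^ q * (a - a⁻¹) =
      ((reps a q i).map fun b => b - b⁻¹).prod * (a ^ q ^ i - (a ^ q ^ i)⁻¹) := by
  induction i with
  | zero => simp [reps]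
  | succ i ih =>
    rw [reps, Multiset.range_succ, Multiset.map_cons, Multiset.map_cons, Multiset.prod_cons, mul_pow]
    change (a ^ q ^ i - (a ^ q ^ i)⁻¹) ^ q * ((reps a q i).map fun b => b - b⁻¹).prod ^ q * _ =
      (a ^ q ^ i - (a ^ q ^ i)⁻¹) * ((reps a q i).map fun b => b - b⁻¹).prod * _
    rw [mul_assoc, ih, H.sub, inv_pow, ← pow_mul, ← pow_succ]
    ring

theorem sub_inv_ne {a : L} (ha : a ∈ Λ) (h1 : a ≠ -1) : a - a⁻¹ ≠ 0 := fun h =>
  h1 (H.eq_neg_one_of_inv ha (sub_eq_zero.1 h))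

theorem rep_prod_self {a : L} {i : ℕ} (ha : a ∈ Λ) (h1 : a ≠ -1) (h : a ^ q ^ i = a⁻¹) :
    ((reps a q i).map fun b => b - b⁻¹).prod ^ q = -((reps a q i).map fun b => b - b⁻¹).prod :=
  mul_right_cancel₀ (H.sub_inv_ne ha h1) (by rw [H.rep_prod (a := a), h, inv_inv]; ring)

theorem rep_prod_pair {a : L} {i : ℕ} (ha : a ∈ Λ) (h1 : a ≠ -1) (h : a ^ q ^ i = a) :
    ((reps a q i).map fun b => b - b⁻¹).prod ^ q = ((reps a q i).map fun b => b - b⁻¹).prod :=
  mul_right_cancel₀ (H.sub_inv_ne ha h1) (by rw [H.rep_prod (a := a), h])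

/-- The discriminant condition. -/
theorem no_anti (hΔ : ∃ c : L, c ^ q = c ∧ c * c = (Λ.map fun a => a * a - 1).prod) (hneg : (-1 : L) ∉ Λ)
    (s : Multiset L) (hs : Λ = s + s.map fun b => b⁻¹) (hc : Multiset.card s = 4)
    (hP : (s.map fun b => b - b⁻¹).prod ^ q = -(s.map fun b => b - b⁻¹).prod) : False := by
  obtain ⟨c, hcq, hcc⟩ := hΔ
  set P := (s.map fun b => b - b⁻¹).prod with hPdef
  have hmem : ∀ b ∈ s, b ∈ Λ := fun b hb => by rw [hs]; exact Multiset.mem_add.2 (Or.inl hb)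
  have hprod : (Λ.map fun a => a * a - 1).prod = P * P := by
    rw [hs, Multiset.map_add, Multiset.prod_add, Multiset.map_map, ← Multiset.prod_map_mul]
    calc (s.map fun b => (b * b - 1) * (b⁻¹ * b⁻¹ - 1)).prod
        = (s.map fun b => -1 * ((b - b⁻¹) * (b - b⁻¹))).prod :=
          congrArg Multiset.prod (Multiset.map_congr rfl fun b hb => by
            have h := mul_inv_cancel₀ (fun h0 : b = 0 => H.zero (h0 ▸ hmem b hb))
            linear_combination (b * b⁻¹ - 1) * h)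
      _ = P * P := by
        rw [Multiset.prod_map_mul, Multiset.map_const', Multiset.prod_replicate, hc, Multiset.prod_map_mul]
        ring
  rw [hprod] at hcc
  have hPq : P ^ q = P := by
    rcases mul_self_eq_mul_self_iff.1 hcc with h | h
    · rw [← h, hcq]
    · rw [show P = -c by rw [h, neg_neg], H.odd.neg_pow, hcq]
  rw [hPq] at hP
  have h0 : P = 0 := (mul_eq_zero.1 (show (2 : L) * P = 0 by linear_combination hP)).resolve_left H.two
  obtain ⟨b, hb, hb0⟩ := Multiset.mem_map.1 (Multiset.prod_eq_zero_iff.1 h0)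
  exact hneg (H.eq_neg_one_of_inv (hmem b hb) (sub_eq_zero.1 hb0) ▸ hmem b hb)

omit H in
theorem pow_of_dvd {a : L} {n m : ℕ} (h : a ^ n = 1) (hd : n ∣ m) : a ^ m = 1 := by
  obtain ⟨k, rfl⟩ := hd
  rw [pow_mul, h, one_pow]

theorem self_pow {a : L} {i : ℕ} (ha : a ∈ Λ) (h : a ^ q ^ i = a⁻¹) : a ^ (q ^ i + 1) = 1 := by
  rw [pow_succ, h, inv_mul_cancel₀ fun h0 => H.zero (by rwa [h0] at ha)]

theorem pair_pow {a : L} {i : ℕ} (ha : a ∈ Λ) (h : a ^ q ^ i = a) : a ^ (q ^ i - 1) = 1 := by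
  refine mul_right_cancel₀ (fun h0 : a = 0 => H.zero (h0 ▸ ha)) ?_
  rw [← pow_succ, Nat.sub_add_cancel (Nat.one_le_pow _ _ (by have := H.three; omega)), h, one_mul]

theorem arith : (q + 1 ∣ q ^ 2 - 1) ∧ (q - 1 ∣ q ^ 2 - 1) ∧ (q ^ 2 - 1 ∣ (q ^ 4 - 1) / 2) ∧
    (q ^ 2 + 1 ∣ (q ^ 4 - 1) / 2) ∧ 2 * ((q ^ 4 - 1) / 2) = q ^ 4 - 1 ∧ 2 ∣ q ^ 2 - 1 := by
  obtain ⟨t, rfl⟩ := H.odd
  have e1 : (2 * t + 1) ^ 2 - 1 = (2 * t) * (2 * t + 2) := by
    rw [show (2 * t + 1) ^ 2 = (2 * t) * (2 * t + 2) + 1 by ring, Nat.add_sub_cancel]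
  have e2 : (2 * t + 1) ^ 4 - 1 = 2 * ((2 * t) * (2 * t + 2) * (2 * t * t + 2 * t + 1)) := by
    rw [show (2 * t + 1) ^ 4 = 2 * ((2 * t) * (2 * t + 2) * (2 * t * t + 2 * t + 1)) + 1 by ring, Nat.add_sub_cancel]
  rw [e2, Nat.mul_div_cancel_left _ two_pos, e1, Nat.add_sub_cancel,
    show (2 * t + 1) ^ 2 + 1 = 2 * (2 * t * t + 2 * t + 1) by ring]
  exact ⟨dvd_mul_left _ _, dvd_mul_right _ _, dvd_mul_right _ _,
    ⟨2 * t * (t + 1), by ring⟩, rfl, ⟨t * (2 * t + 2), by ring⟩⟩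

/-- No unipotent part. -/
theorem cases_zero (hΔ : (-1 : L) ∉ Λ → ∃ c : L, c ^ q = c ∧ c * c = (Λ.map fun a => a * a - 1).prod) :
    (∀ a ∈ Λ, a ^ ((q ^ 4 - 1) / 2) = 1) ∨ (∀ a ∈ Λ, a ^ (q ^ 3 - 1) = 1) ∨ (∀ a ∈ Λ, a ^ (q ^ 3 + 1) = 1) ∨
      (∀ a ∈ Λ, a ^ ((q ^ 4 - 1) / 2) = -1) := by
  classical
  obtain ⟨hA, hB, hC, hD, hE, hF⟩ := H.arith
  by_cases hall : ∀ a ∈ Λ, a ^ (q ^ 4 - 1) = 1
  · by_cases hhalf : ∀ a ∈ Λ, a ^ ((q ^ 4 - 1) / 2) = 1
    · exact Or.inl hhalf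
    push Not at hhalf
    obtain ⟨a, ha, hne⟩ := hhalf
    obtain ⟨O, hO, hcase⟩ := H.classify ha
    rcases hcase with ⟨rfl, -⟩ | ⟨i, hi, hOc, hOv, hrel⟩
    · exact absurd (pow_of_dvd (neg_one_sq : (-1 : L) ^ 2 = 1) (hF.trans hC)) hne
    have hle := H.card_le hO
    have hc1 := Multiset.one_le_count_iff_mem.2 ha
    have h4' : a ^ q ^ 4 = a := by
      have := hall a ha
      rw [← Nat.sub_add_cancel (Nat.one_le_pow 4 q (by have := H.three; omega)), pow_succ, this, one_mul]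
    have h3q : a ^ q ^ 3 = a⁻¹ → a ^ (q + 1) = 1 := fun h => by
      have e : a⁻¹ ^ q = a := by rw [← h, ← pow_mul, ← pow_succ, h4']
      rw [inv_pow, inv_eq_iff_eq_inv] at e
      rw [pow_succ, e, inv_mul_cancel₀ fun h0 => H.zero (by rwa [h0] at ha)]
    have h3p : a ^ q ^ 3 = a → a ^ (q - 1) = 1 := fun h => by
      have e : a ^ q ^ 1 = a := by rw [pow_one]; conv_lhs => rw [← h, ← pow_mul, ← pow_succ, h4']
      simpa using H.pair_pow ha e
    have hi4 : i ≤ 4 := by nlinarith [hle, hOc, hc1]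
    rcases hrel with hr | hr
    · refine absurd ?_ hne
      interval_cases i
      · refine pow_of_dvd ?_ (hA.trans hC)
        simpa using H.self_pow ha hr
      · exact pow_of_dvd (H.self_pow ha hr) hD
      · exact pow_of_dvd (h3q hr) (hA.trans hC)
      · exact pow_of_dvd (H.eq_neg_one_of_inv ha (h4'.symm.trans hr) ▸ neg_one_sq) (hF.trans hC)
    · interval_cases i
      · exact absurd (pow_of_dvd (by simpa using H.pair_pow ha hr) (hB.trans hC)) hne
      · exact absurd (pow_of_dvd (H.pair_pow ha hr) hC) hne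
      · exact absurd (pow_of_dvd (h3p hr) (hB.trans hC)) hne
      · right; right; right
        have hΛ := H.eq_of_le_card (fun x hx => H.mem_orb ha hO hx) hOc.ge
        have ha1 : a ^ ((q ^ 4 - 1) / 2) = -1 := by
          have h2 : a ^ ((q ^ 4 - 1) / 2) * a ^ ((q ^ 4 - 1) / 2) = 1 := by
            rw [← pow_add, ← two_mul, hE]; exact hall a ha
          exact (mul_self_eq_one_iff.1 h2).resolve_left hne
        intro b hb
        rw [hΛ, hOv] at hb
        have hb' : ∃ k, b = a ^ q ^ k ∨ b = (a ^ q ^ k)⁻¹ := by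
          rcases Multiset.mem_add.1 hb with h | h
          · obtain ⟨k, -, rfl⟩ := Multiset.mem_map.1 h
            exact ⟨k, Or.inl rfl⟩
          · obtain ⟨y, hy, rfl⟩ := Multiset.mem_map.1 h
            obtain ⟨k, -, rfl⟩ := Multiset.mem_map.1 hy
            exact ⟨k, Or.inr rfl⟩
        obtain ⟨k, rfl | rfl⟩ := hb'
        · rw [← pow_mul, mul_comm, pow_mul, ha1, (H.odd.pow).neg_one_pow]
        · rw [inv_pow, ← pow_mul, mul_comm, pow_mul, ha1, (H.odd.pow).neg_one_pow, inv_neg_one]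
  push Not at hall
  obtain ⟨a, ha, hne⟩ := hall
  have hd2 : ∀ {n : ℕ}, a ^ n = 1 → n ∣ (q ^ 4 - 1) / 2 → False := fun h hd =>
    hne (pow_of_dvd h (hd.trans (Dvd.intro_left 2 hE)))
  obtain ⟨O, hO, hcase⟩ := H.classify ha
  have hle := H.card_le hO
  have hc1 := Multiset.one_le_count_iff_mem.2 ha
  rcases hcase with ⟨rfl, -⟩ | ⟨i, hi, hOc, hOv, hrel⟩
  · exact (hd2 neg_one_sq (hF.trans hC)).elim
  have hne1 : a ≠ -1 := fun h => hd2 (h ▸ neg_one_sq) (hF.trans hC)
  have hi4 : i ≤ 4 := by nlinarith [hle, hOc, hc1]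
  -- the orbits of size eight and six
  have key8 : i = 4 → a ^ q ^ i = a⁻¹ → False := fun h4 hr => by
    have hΛ := H.eq_of_le_card (fun x hx => H.mem_orb ha hO hx) (by omega)
    rw [hOv] at hΛ
    have hneg : (-1 : L) ∉ Λ := fun hm => by
      have : (-1 : L) ∈ O := by rw [← Finset.mem_val, hOv, ← hΛ]; exact hm
      exact hne1 (Finset.mem_singleton.1 (hO.back {-1} (fun b hb => by
        rw [Finset.mem_singleton.1 hb, H.odd.neg_one_pow, inv_neg_one]; simp) _ this (Finset.mem_singleton_self _)))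
    exact H.no_anti (hΔ hneg) hneg _ hΛ (by simp [reps, h4]) (H.rep_prod_self ha hne1 hr)
  have key6 : i = 3 → ∀ b ∈ Λ, b ∉ O → (b = -1) ∨ (b ^ q = b⁻¹ ∧ a ^ q ^ i = a⁻¹ → b ^ (q + 1) = 1) ∧
      ∃ O' : Finset L, b ≠ -1 ∧ (b ^ q = b⁻¹ ∨ b ^ q = b) ∧ O'.val = reps b q 1 + (reps b q 1).map (fun c => c⁻¹) ∧
        Λ = (reps a q i + reps b q 1) + (reps a q i + reps b q 1).map (fun c => c⁻¹) ∧ (-1 : L) ∉ Λ := by
    intro h3 b hb hbO
    by_cases hb1 : b = -1
    · exact Or.inl hb1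
    refine Or.inr ⟨fun h => by rw [pow_succ, h.1, inv_mul_cancel₀ fun h0 => H.zero (by rwa [h0] at hb)], ?_⟩
    obtain ⟨O', hO', hcase'⟩ := H.classify hb
    obtain ⟨h1, -⟩ | ⟨j, hj, hOc', hOv', hrel'⟩ := hcase'
    · exact absurd h1 hb1
    have h2 := H.card_two hO hO' hbO
    have hcb := Multiset.one_le_count_iff_mem.2 hb
    have hj1 : j = 1 := by nlinarith [h2, hOc', hcb, hOc, hc1, h3]
    subst hj1
    have hd := H.orb_disjoint hO hO' hbO
    have hΛ := H.eq_of_le_card (m := O.disjUnion O' hd) (fun x hx => by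
      rcases Finset.mem_disjUnion.1 hx with h | h
      · exact H.mem_orb ha hO h
      · exact H.mem_orb hb hO' h) (by rw [Finset.card_disjUnion]; omega)
    refine ⟨O', hb1, by simpa using hrel', hOv', ?_, fun hm => ?_⟩
    · rw [hΛ, Finset.disjUnion_val, hOv, hOv', Multiset.map_add]
      abel
    · rw [hΛ, Finset.mem_val, Finset.mem_disjUnion] at hm
      rcases hm with h | h
      · exact hne1 (Finset.mem_singleton.1 (hO.back {-1} (fun b hb => by
          rw [Finset.mem_singleton.1 hb, H.odd.neg_one_pow, inv_neg_one]; simp) _ h (Finset.mem_singleton_self _)))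
      · exact hb1 (Finset.mem_singleton.1 (hO'.back {-1} (fun b hb => by
          rw [Finset.mem_singleton.1 hb, H.odd.neg_one_pow, inv_neg_one]; simp) _ h (Finset.mem_singleton_self _)))
  rcases hrel with hr | hr
  · interval_cases i
    · exact (hd2 (by simpa using H.self_pow ha hr) (hA.trans hC)).elim
    · exact (hd2 (H.self_pow ha hr) hD).elim
    · right; right; left
      intro b hb
      by_cases hbO : b ∈ O
      · exact hO.pow b hbO _ (H.self_pow ha hr)
      have hq : q + 1 ∣ q ^ 3 + 1 := by simpa using (show Odd 3 by decide).nat_add_dvd_pow_add_pow q 1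
      rcases key6 rfl b hb hbO with rfl | ⟨hp, O', hb1, hrb, -, hΛ, hneg⟩
      · exact pow_of_dvd neg_one_sq (dvd_trans (even_iff_two_dvd.1 H.odd.add_one) hq)
      rcases hrb with h | h
      · exact pow_of_dvd (hp ⟨h, hr⟩) hq
      · refine (H.no_anti (hΔ hneg) hneg _ hΛ (by simp [reps]) ?_).elim
        rw [Multiset.map_add, Multiset.prod_add, mul_pow, H.rep_prod_self ha hne1 hr,
          H.rep_prod_pair hb hb1 (by rw [pow_one]; exact h), neg_mul]
    · exact (key8 rfl hr).elim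
  · interval_cases i
    · exact (hd2 (by simpa using H.pair_pow ha hr) (hB.trans hC)).elim
    · exact (hd2 (H.pair_pow ha hr) hC).elim
    · right; left
      intro b hb
      by_cases hbO : b ∈ O
      · exact hO.pow b hbO _ (H.pair_pow ha hr)
      have hq : q - 1 ∣ q ^ 3 - 1 := by simpa using Nat.sub_dvd_pow_sub_pow q 1 3
      rcases key6 rfl b hb hbO with rfl | ⟨-, O', hb1, hrb, -, hΛ, hneg⟩
      · exact pow_of_dvd neg_one_sq (dvd_trans (even_iff_two_dvd.1 (Nat.Odd.sub_odd H.odd odd_one)) hq)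
      rcases hrb with h | h
      · refine (H.no_anti (hΔ hneg) hneg _ hΛ (by simp [reps]) ?_).elim
        rw [Multiset.map_add, Multiset.prod_add, mul_pow, H.rep_prod_pair ha hne1 hr,
          H.rep_prod_self hb hb1 (by rw [pow_one]; exact h), mul_neg]
      · exact pow_of_dvd (by simpa using H.pair_pow hb (show b ^ q ^ 1 = b by rw [pow_one]; exact h)) hq
    · exact (hne (H.pair_pow ha hr)).elim

/-- A root in a small orbit. -/
theorem small {a : L} {O : Finset L} (ha : a ∈ Λ)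
    (h : (a = -1 ∧ O.card = 1) ∨ ∃ i, 1 ≤ i ∧ O.card = 2 * i ∧ O.val = reps a q i + (reps a q i).map (fun b => b⁻¹) ∧
          (a ^ q ^ i = a⁻¹ ∨ a ^ q ^ i = a)) (hc : O.card ≤ 5) :
    (O.card ≤ 2 ∧ (a ^ (q + 1) = 1 ∨ a ^ (q - 1) = 1)) ∨
      (O.card = 4 ∧ (a ^ (q ^ 2 + 1) = 1 ∨ a ^ (q ^ 2 - 1) = 1)) := by
  rcases h with ⟨rfl, h1⟩ | ⟨i, hi, hi2, -, hr⟩
  · exact Or.inl ⟨by omega, Or.inl (by rw [H.odd.add_one.neg_one_pow])⟩
  have : i = 1 ∨ i = 2 := by omega
  rcases this with rfl | rfl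
  · refine Or.inl ⟨by omega, ?_⟩
    rcases hr with hr | hr
    · exact Or.inl (by simpa using H.self_pow ha hr)
    · exact Or.inr (by simpa using H.pair_pow ha hr)
  · refine Or.inr ⟨by omega, ?_⟩
    rcases hr with hr | hr
    · exact Or.inl (H.self_pow ha hr)
    · exact Or.inr (H.pair_pow ha hr)

/-- One unipotent layer. -/
theorem cases_one [DecidableEq L] {a : L} (ha : 2 ≤ Λ.count a) (hneg : a = -1 → 3 ≤ Λ.count a) :
    (∀ b ∈ Λ, b ^ (q ^ 2 - 1) = 1) ∨ (∀ b ∈ Λ, b ^ Nat.lcm (q ^ 2 + 1) (q + 1) = 1) ∨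
      (∀ b ∈ Λ, b ^ Nat.lcm (q ^ 2 + 1) (q - 1) = 1) := by
  obtain ⟨hA, hB, -, -, -, hF⟩ := H.arith
  have hmem : a ∈ Λ := Multiset.count_pos.1 (by omega)
  obtain ⟨O, hO, hcase⟩ := H.classify hmem
  have hle := H.card_le hO
  have hOpos : 1 ≤ O.card := Finset.card_pos.2 ⟨a, hO.mem⟩
  have hO5 : O.card ≤ 5 := by nlinarith
  have hrest : ∀ b ∈ Λ, b ∉ O → ∃ O', Orb Λ q b O' ∧ Λ.count a * O.card + O'.card ≤ 8 ∧
      ((b = -1 ∧ O'.card = 1) ∨ ∃ i, 1 ≤ i ∧ O'.card = 2 * i ∧ O'.val = reps b q i + (reps b q i).map (fun c => c⁻¹) ∧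
          (b ^ q ^ i = b⁻¹ ∨ b ^ q ^ i = b)) := fun b hb hbO => by
    obtain ⟨O', hO', hcase'⟩ := H.classify hb
    have h2 := H.card_two hO hO' hbO
    have hcb := Multiset.one_le_count_iff_mem.2 hb
    exact ⟨O', hO', le_trans (Nat.add_le_add_left (Nat.le_mul_of_pos_left _ hcb) _) h2, hcase'⟩
  rcases H.small hmem hcase hO5 with ⟨hO2, hpa⟩ | ⟨hO4, hpa⟩
  swap
  · have hall : ∀ b ∈ Λ, b ∈ O := fun b hb => by
      by_contra hbO
      obtain ⟨O', hO', h2, -⟩ := hrest b hb hbO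
      have : 1 ≤ O'.card := Finset.card_pos.2 ⟨b, hO'.mem⟩
      nlinarith
    rcases hpa with h | h
    · exact Or.inr (Or.inl fun b hb => hO.pow b (hall b hb) _ (pow_of_dvd h (Nat.dvd_lcm_left _ _)))
    · exact Or.inl fun b hb => hO.pow b (hall b hb) _ h
  have h3 : 3 ≤ Λ.count a * O.card := by
    rcases hcase with ⟨h1, hc⟩ | ⟨i, hi, hc, -⟩
    · rw [hc, mul_one]; exact hneg h1
    · rw [hc]; nlinarith
  by_cases hA2 : ∃ b ∈ Λ, b ∉ O ∧ b ^ (q ^ 2 - 1) ≠ 1
  swap
  · push Not at hA2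
    refine Or.inl fun b hb => ?_
    by_cases hbO : b ∈ O
    · exact hO.pow b hbO _ (hpa.elim (fun h => pow_of_dvd h hA) fun h => pow_of_dvd h hB)
    · exact hA2 b hb hbO
  obtain ⟨b, hb, hbO, hne⟩ := hA2
  obtain ⟨O', hO', h2, hcase'⟩ := hrest b hb hbO
  rcases H.small hb hcase' (by omega) with ⟨-, hpb⟩ | ⟨hO'4, hpb⟩
  · exact absurd (hpb.elim (fun h => pow_of_dvd h hA) fun h => pow_of_dvd h hB) hne
  have hpb' : b ^ (q ^ 2 + 1) = 1 := hpb.resolve_right hne
  -- everything else fills at most one slot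
  have hrest' : ∀ c ∈ Λ, c ∉ O → c ∉ O' → c = -1 := fun c hc hcO hcO' => by
    obtain ⟨O'', hO'', hcase''⟩ := H.classify hc
    rcases hcase'' with ⟨h, -⟩ | ⟨i, hi, hi2, -⟩
    · exact h
    exfalso
    have h6 := H.card_three hO hO' hO'' hbO hcO hcO'
    have hcc := Multiset.one_le_count_iff_mem.2 hc
    have hcb := Multiset.one_le_count_iff_mem.2 hb
    nlinarith
  have hev1 : 2 ∣ q + 1 := even_iff_two_dvd.1 H.odd.add_one
  have hev2 : 2 ∣ q - 1 := even_iff_two_dvd.1 (Nat.Odd.sub_odd H.odd odd_one)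
  have fin : ∀ n, a ^ n = 1 → 2 ∣ n → ∀ c ∈ Λ, c ^ Nat.lcm (q ^ 2 + 1) n = 1 := fun n hn hn2 c hc => by
    by_cases hcO : c ∈ O
    · exact hO.pow c hcO _ (pow_of_dvd hn (Nat.dvd_lcm_right _ _))
    by_cases hcO' : c ∈ O'
    · exact hO'.pow c hcO' _ (pow_of_dvd hpb' (Nat.dvd_lcm_left _ _))
    rw [hrest' c hc hcO hcO']
    exact pow_of_dvd neg_one_sq (hn2.trans (Nat.dvd_lcm_right _ _))
  exact hpa.elim (fun h => Or.inr (Or.inl (fin _ h hev1))) fun h => Or.inr (Or.inr (fin _ h hev2))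

/-- Several unipotent layers. -/
theorem cases_high [DecidableEq L] {a : L} {k : ℕ} (hk3 : 3 ≤ k) (hk : Odd k) (ha : k + 1 ≤ Λ.count a)
    (hneg : a = -1 → k + 2 ≤ Λ.count a) :
    (k = 3 ∧ ((∀ b ∈ Λ, b ^ (q + 1) = 1) ∨ ∀ b ∈ Λ, b ^ (q - 1) = 1)) ∨ (k = 5 ∧ ∀ b ∈ Λ, b ^ 2 = 1) := by
  have hmem : a ∈ Λ := Multiset.count_pos.1 (by omega)
  obtain ⟨O, hO, hcase⟩ := H.classify hmem
  have hle := H.card_le hO
  have hev1 : 2 ∣ q + 1 := even_iff_two_dvd.1 H.odd.add_one
  have hev2 : 2 ∣ q - 1 := even_iff_two_dvd.1 (Nat.Odd.sub_odd H.odd odd_one)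
  obtain ⟨m, rfl⟩ := hk
  rcases hcase with ⟨rfl, h1⟩ | ⟨i, hi, hi2, -, hr⟩
  · have hc := hneg rfl
    rw [h1, mul_one] at hle
    have hsq : ((-1 : L)) ^ 2 = 1 := neg_one_sq
    have hnotO : ∀ b ∈ Λ, b ≠ -1 → b ∉ O := fun b _ hb1 hbO => hb1 (by
      rw [Finset.card_eq_one] at h1
      obtain ⟨x, rfl⟩ := h1
      rw [Finset.mem_singleton.1 hbO, Finset.mem_singleton.1 hO.mem])
    have hrest : ∀ b ∈ Λ, b ≠ -1 → ∃ O', Orb Λ q b O' ∧ O'.card = 2 ∧ Λ.count (-1) + 2 ≤ 8 ∧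
        (b ^ (q + 1) = 1 ∨ b ^ (q - 1) = 1) := fun b hb hb1 => by
      obtain ⟨O', hO', hcase'⟩ := H.classify hb
      have h2 := H.card_two hO hO' (hnotO b hb hb1)
      have hcb := Multiset.one_le_count_iff_mem.2 hb
      rcases hcase' with ⟨h, -⟩ | ⟨j, hj, hj2, -, hr'⟩
      · exact absurd h hb1
      rw [h1, mul_one, hj2] at h2
      have : j = 1 := by nlinarith
      subst this
      refine ⟨O', hO', hj2, by nlinarith, hr'.imp (fun h => ?_) fun h => ?_⟩
      · simpa using H.self_pow hb h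
      · simpa using H.pair_pow hb h
    have hm12 : m = 1 ∨ m = 2 := by omega
    rcases hm12 with rfl | rfl
    · refine Or.inl ⟨rfl, ?_⟩
      by_cases hone : ∀ b ∈ Λ, b = -1
      · exact Or.inl fun b hb => by rw [hone b hb, H.odd.add_one.neg_one_pow]
      push Not at hone
      obtain ⟨b, hb, hb1⟩ := hone
      obtain ⟨O', hO', hc2, -, hpb⟩ := hrest b hb hb1
      have hall : ∀ c ∈ Λ, c = -1 ∨ c ∈ O' := fun c hcm => by
        by_contra h
        push Not at h
        obtain ⟨O'', hO'', hc2', -⟩ := hrest c hcm h.1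
        have h6 := H.card_three hO hO' hO'' (hnotO b hb hb1) (hnotO c hcm h.1) h.2
        have hcc := Multiset.one_le_count_iff_mem.2 hcm
        have hcb := Multiset.one_le_count_iff_mem.2 hb
        rw [h1, hc2, hc2'] at h6
        omega
      refine hpb.imp (fun h c hcm => ?_) fun h c hcm => ?_
      · rcases hall c hcm with rfl | hco
        · exact H.odd.add_one.neg_one_pow
        · exact hO'.pow c hco _ h
      · rcases hall c hcm with rfl | hco
        · exact pow_of_dvd hsq hev2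
        · exact hO'.pow c hco _ h
    · refine Or.inr ⟨rfl, fun b hb => ?_⟩
      by_cases hb1 : b = -1
      · rw [hb1]; exact hsq
      · obtain ⟨O', -, -, h, -⟩ := hrest b hb hb1
        omega
  · rw [hi2] at hle
    have hi1 : i = 1 := by nlinarith
    subst hi1
    obtain rfl : m = 1 := by nlinarith
    have hall : ∀ b ∈ Λ, b ∈ O := fun b hb => by
      by_contra hbO
      obtain ⟨O', hO', -⟩ := H.classify hb
      have h2 := H.card_two hO hO' hbO
      have h7 : 1 ≤ O'.card := Finset.card_pos.2 ⟨b, hO'.mem⟩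
      have hcb := Multiset.one_le_count_iff_mem.2 hb
      rw [hi2] at h2
      nlinarith
    refine Or.inl ⟨rfl, ?_⟩
    rcases hr with hr | hr
    · exact Or.inl fun b hb => hO.pow b (hall b hb) _ (by simpa using H.self_pow hmem hr)
    · exact Or.inr fun b hb => hO.pow b (hall b hb) _ (by simpa using H.pair_pow hmem hr)

end RootSet

end CfsgLib.OrthSpecNine
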