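import Mathlib
import Cfsg.Agent.Lib.Classical.SympBasic

/-!
Eigenvalues of orthogonal matrices over a finite field.
-/

set_option autoImplicit false
set_option linter.unusedSectionVars false

namespace CfsgLib.OrthSpecNine

open Matrix Polynomial

variable {F : Type*} [Field F] {ι : Type*} [Fintype ι] [DecidableEq ι]

/-- The eigenvalues in an algebraic closure, with multiplicity. -/
noncomputable def eigs (A : Matrix ι ι F) : Multiset (AlgebraicClosure F) :=
  ((A.map (algebraMap F (AlgebraicClosure F))).charpoly).roots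

theorem card_eigs (A : Matrix ι ι F) : Multiset.card (eigs A) = Fintype.card ι := by
  rw [eigs, IsAlgClosed.card_roots_eq_natDegree, Matrix.charpoly_natDegree_eq_dim]

/-- The eigenvalues are permuted by the Frobenius map. -/
theorem eigs_frob [Fintype F] (A : Matrix ι ι F) :
    (eigs A).map (fun a => a ^ Fintype.card F) = eigs A := by
  obtain ⟨⟨n, hn⟩, hp, hc⟩ := FiniteField.card F (ringChar F)
  have : Fact (ringChar F).Prime := ⟨hp⟩
  have : CharP F (ringChar F) := ringChar.charP F
  have : CharP (AlgebraicClosure F) (ringChar F) := charP_of_injective_algebraMap (algebraMap F _).injective _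
  set f : AlgebraicClosure F →+* AlgebraicClosure F := iterateFrobenius _ (ringChar F) n
  have hf : ∀ a, f a = a ^ Fintype.card F := fun a => by rw [iterateFrobenius_def, hc]; rfl
  have hfix : f.comp (algebraMap F (AlgebraicClosure F)) = algebraMap F (AlgebraicClosure F) :=
    RingHom.ext fun a => by rw [RingHom.comp_apply, hf, ← map_pow, FiniteField.pow_card]
  have h := ((IsAlgClosed.splits (A.map (algebraMap F (AlgebraicClosure F))).charpoly).roots_map f)
  rw [Matrix.charpoly_map A (algebraMap F (AlgebraicClosure F)), Polynomial.map_map, hfix,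
    ← Matrix.charpoly_map] at h
  rw [eigs]
  conv_rhs => rw [h]
  exact Multiset.map_congr rfl fun a _ => (hf a).symm

theorem eval_charpoly_map (A : Matrix ι ι F) (t : F) :
    algebraMap F (AlgebraicClosure F) (Matrix.scalar ι t - A).det =
      ((eigs A).map fun a => algebraMap F _ t - a).prod := by
  have h := (IsAlgClosed.splits (A.map (algebraMap F (AlgebraicClosure F))).charpoly).eq_prod_roots_of_monic
    (Matrix.charpoly_monic _)
  rw [← Matrix.eval_charpoly, ← Polynomial.eval_map_apply, ← Matrix.charpoly_map, h, Polynomial.eval_multiset_prod,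
    Multiset.map_map]
  exact congrArg Multiset.prod (Multiset.map_congr rfl fun a _ => by simp)

theorem one_notMem_eigs {A : Matrix ι ι F} (h : (A - 1).det ≠ 0) : (1 : AlgebraicClosure F) ∉ eigs A := by
  intro h1
  have h2 := eval_charpoly_map A 1
  rw [Multiset.prod_eq_zero (Multiset.mem_map.2 ⟨1, h1, by rw [map_one, sub_self]⟩), map_eq_zero, map_one,
    ← neg_sub, Matrix.det_neg] at h2
  exact h ((mul_eq_zero.1 h2).resolve_left (pow_ne_zero _ (by norm_num)))

theorem det_sq_sub_one (A : Matrix ι ι F) :
    algebraMap F (AlgebraicClosure F) (A * A - 1).det = ((eigs A).map fun a => a * a - 1).prod := by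
  have e : A * A - 1 = (Matrix.scalar ι (1 : F) - A) * (Matrix.scalar ι (-1) - A) := by
    rw [map_neg, map_one, sub_mul, mul_sub, mul_sub, one_mul, one_mul, mul_neg, mul_one]; abel
  rw [e, Matrix.det_mul, map_mul, eval_charpoly_map, eval_charpoly_map, ← Multiset.prod_map_mul]
  refine congrArg Multiset.prod (Multiset.map_congr rfl fun a _ => ?_)
  rw [map_neg, map_one]; ring

/-- The inverse has the inverse eigenvalues. -/
theorem eigs_inverse {A B : Matrix ι ι F} (hAB : A * B = 1) : eigs B = (eigs A).map fun a => a⁻¹ := by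
  set L := AlgebraicClosure F
  set M := A.map (algebraMap F L) with hM
  set N := B.map (algebraMap F L) with hN
  have hMN : M * N = 1 := by rw [hM, hN, ← Matrix.map_mul, hAB, Matrix.map_one _ (map_zero _) (map_one _)]
  set s := M.charpoly.roots
  have hsplit : M.charpoly = (s.map fun a => Polynomial.X - Polynomial.C a).prod :=
    (IsAlgClosed.splits _).eq_prod_roots_of_monic (Matrix.charpoly_monic _)
  have hdet : M.det = s.prod := M.det_eq_prod_roots_charpoly
  have hd0 : M.det ≠ 0 := fun h => by
    have := congrArg Matrix.det hMN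
    rw [Matrix.det_mul, h, zero_mul, Matrix.det_one] at this
    exact zero_ne_one this
  have hne : ∀ a ∈ s, a ≠ 0 := fun a ha h0 => hd0 (by rw [hdet, Multiset.prod_eq_zero (h0 ▸ ha)])
  have key : ∀ t : L, t ≠ 0 → N.charpoly.eval t = ((s.map fun a => a⁻¹).map fun a => Polynomial.X - Polynomial.C a).prod.eval t := by
    intro t ht
    rw [Polynomial.eval_multiset_prod, Multiset.map_map, Multiset.map_map]
    simp only [Function.comp_def, Polynomial.eval_sub, Polynomial.eval_X, Polynomial.eval_C]
    have e1 : M * (Matrix.scalar ι t - N) = (-t) • (Matrix.scalar ι t⁻¹ - M) := by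
      rw [mul_sub, hMN, neg_smul, smul_sub, neg_sub, Matrix.scalar_apply, Matrix.scalar_apply,
        ← Matrix.smul_one_eq_diagonal, ← Matrix.smul_one_eq_diagonal, Matrix.mul_smul, mul_one, smul_smul,
        mul_inv_cancel₀ ht, one_smul]
    have e2 := congrArg Matrix.det e1
    rw [Matrix.det_mul, ← Matrix.eval_charpoly, Matrix.det_smul, ← Matrix.eval_charpoly, hdet, hsplit,
      Polynomial.eval_multiset_prod, Multiset.map_map, ← card_eigs A] at e2
    have e3 : (s.map fun a => (-t) * (t⁻¹ - a)).prod =
        (-t) ^ Multiset.card s * (s.map fun a => t⁻¹ - a).prod := by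
      rw [Multiset.prod_map_mul, Multiset.map_const', Multiset.prod_replicate]
    have e4 : (s.map fun a => (-t) * (t⁻¹ - a)).prod = (s.map fun a => a * (t - a⁻¹)).prod :=
      congrArg Multiset.prod (Multiset.map_congr rfl fun a ha => by
        linear_combination -(mul_inv_cancel₀ ht) + mul_inv_cancel₀ (hne a ha))
    rw [Multiset.prod_map_mul, Multiset.prod_map_mul, Multiset.map_id'] at e4
    refine mul_left_cancel₀ (fun h => hd0 (hdet.trans h)) ?_
    rw [e2]
    refine Eq.trans ?_ e4
    rw [Multiset.map_const', Multiset.prod_replicate]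
    simp [Function.comp_def]
    exact Or.inl rfl
  have hpoly : N.charpoly = ((s.map fun a => a⁻¹).map fun a => Polynomial.X - Polynomial.C a).prod :=
    Polynomial.eq_of_infinite_eval_eq _ _ (Set.Infinite.mono (fun t (ht : t ∈ ({0} : Set L)ᶜ) => key t ht)
      (Set.finite_singleton (0 : L)).infinite_compl)
  show N.charpoly.roots = _
  rw [hpoly, Polynomial.roots_multiset_prod_X_sub_C]
  rfl

/-- The eigenvalues of an isometry are closed under inversion. -/
theorem eigs_inv {A B G : Matrix ι ι F} (hAB : A * B = 1) (hG : G.det ≠ 0) (h : A.transpose * G = G * B) :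
    (eigs A).map (fun a => a⁻¹) = eigs A := by
  rw [← eigs_inverse hAB]
  obtain ⟨U, hU⟩ := (Matrix.isUnit_iff_isUnit_det G).2 (Ne.isUnit hG)
  have e : (↑U : Matrix ι ι F) * B * (↑U⁻¹ : Matrix ι ι F) = A.transpose := by
    rw [hU, ← h, mul_assoc, ← hU, U.mul_inv, mul_one]
  have h1 : A.charpoly = B.charpoly := by
    rw [← Matrix.charpoly_transpose A, ← e, Matrix.charpoly_mul_comm, ← mul_assoc, U.inv_mul, one_mul]
  rw [eigs, eigs, Matrix.charpoly_map, Matrix.charpoly_map, h1]

theorem eigs_pow_eq_one {A : Matrix ι ι F} {m : ℕ} (hA : A ^ m = 1) {a : AlgebraicClosure F} (ha : a ∈ eigs A) :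
    a ^ m = 1 := by
  set M := A.map (algebraMap F (AlgebraicClosure F)) with hM
  rw [eigs, mem_roots (Matrix.charpoly_monic _).ne_zero, IsRoot, Matrix.eval_charpoly] at ha
  obtain ⟨v, hv, e⟩ := Matrix.exists_mulVec_eq_zero_iff.mpr ha
  have hscal : Matrix.scalar ι a *ᵥ v = a • v := funext fun i => by
    rw [Matrix.scalar_apply, Matrix.mulVec_diagonal]; rfl
  rw [Matrix.sub_mulVec, sub_eq_zero, hscal] at e
  have hk : ∀ k : ℕ, (M ^ k) *ᵥ v = a ^ k • v := fun k => by
    induction k with
    | zero => simp
    | succ k ih => rw [pow_succ, ← Matrix.mulVec_mulVec, ← e, Matrix.mulVec_smul, ih, smul_smul, ← pow_succ']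
  have h1 := hk m
  rw [hM, ← RingHom.mapMatrix_apply, ← map_pow, hA, map_one, Matrix.one_mulVec] at h1
  by_contra hne
  refine hv (funext fun i => ?_)
  have h2 := congrFun h1 i
  simp only [Pi.smul_apply, smul_eq_mul] at h2
  by_contra hvi
  exact hne ((mul_eq_right₀ hvi).mp h2.symm)

/-- A matrix of finite order prime to the characteristic is determined by its eigenvalues. -/
theorem pow_eq_scalar {A : Matrix ι ι F} {m L : ℕ} (hA : A ^ m = 1) (hm : (m : F) ≠ 0) {c : F}
    (h : ∀ a ∈ eigs A, a ^ L = algebraMap F (AlgebraicClosure F) c) : A ^ L = c • (1 : Matrix ι ι F) := by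
  classical
  set K := AlgebraicClosure F
  set M := A.map (algebraMap F K) with hM
  have hMm : M ^ m = 1 := by rw [hM, ← RingHom.mapMatrix_apply, ← map_pow, hA, map_one]
  have hm0 : (m : K) ≠ 0 := by rw [← map_natCast (algebraMap F K)]; exact (_root_.map_ne_zero _).2 hm
  have hdvd : minpoly K M ∣ (Polynomial.X ^ m - Polynomial.C 1 : Polynomial K) :=
    minpoly.dvd K M (by rw [map_sub, map_pow, aeval_X, aeval_C, map_one, hMm, sub_self])
  have hsep : (minpoly K M).Separable :=
    (Polynomial.separable_X_pow_sub_C (1 : K) hm0 one_ne_zero).of_dvd hdvd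
  have hmon : (minpoly K M).Monic := minpoly.monic ⟨M.charpoly, Matrix.charpoly_monic M, Matrix.aeval_self_charpoly M⟩
  have hroot : minpoly K M ∣ (Polynomial.X ^ L - Polynomial.C (algebraMap F K c) : Polynomial K) := by
    rw [(IsAlgClosed.splits (minpoly K M)).eq_prod_roots_of_monic hmon]
    have hnd := Polynomial.nodup_roots hsep
    rw [show ((minpoly K M).roots.map fun a => Polynomial.X - Polynomial.C a).prod =
      ∏ a ∈ (minpoly K M).roots.toFinset, (Polynomial.X - Polynomial.C a) by
        rw [Finset.prod, Multiset.toFinset_val, hnd.dedup]]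
    refine Finset.prod_dvd_of_coprime (fun a _ b _ hab => ?_) fun a ha => ?_
    · exact Polynomial.isCoprime_X_sub_C_of_isUnit_sub (sub_ne_zero.2 hab).isUnit
    · rw [Polynomial.dvd_iff_isRoot, IsRoot, eval_sub, eval_pow, eval_X, eval_C, sub_eq_zero]
      refine h a ?_
      rw [Multiset.mem_toFinset, mem_roots hmon.ne_zero] at ha
      rw [eigs, mem_roots (Matrix.charpoly_monic _).ne_zero]
      exact ha.dvd (Matrix.minpoly_dvd_charpoly M)
  obtain ⟨P, hP⟩ := hroot
  have hz : M ^ L = algebraMap K (Matrix ι ι K) (algebraMap F K c) := by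
    have := congrArg (Polynomial.aeval M) hP
    rwa [map_sub, map_pow, aeval_X, aeval_C, map_mul, minpoly.aeval, zero_mul, sub_eq_zero] at this
  apply Matrix.map_injective (algebraMap F K).injective
  show (A ^ L).map (algebraMap F K) = (c • (1 : Matrix ι ι F)).map (algebraMap F K)
  rw [← RingHom.mapMatrix_apply, map_pow, RingHom.mapMatrix_apply, ← hM, hz, Algebra.algebraMap_eq_smul_one]
  ext i j
  simp [Matrix.one_apply, apply_ite (algebraMap F K)]

/-- Determinants of non-degenerate alternating matrices are squares. -/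
theorem isSquare_det_alt (h2 : (2 : F) ≠ 0) {X : Matrix ι ι F} (hX : X.transpose = -X) (hd : X.det ≠ 0) :
    IsSquare X.det := by
  classical
  set B : (ι → F) →ₗ[F] (ι → F) →ₗ[F] F := Matrix.toBilin' X
  have hN : B.Nondegenerate := LinearMap.BilinForm.nondegenerate_toBilin'_iff_det_ne_zero.2 hd
  have hA : B.IsAlt := fun v => by
    show Matrix.toBilin' X v v = 0
    rw [Matrix.toBilin'_apply']
    refine (mul_eq_zero.1 (show (2 : F) * (v ⬝ᵥ X *ᵥ v) = 0 from ?_)).resolve_left h2
    have h1 : v ⬝ᵥ X *ᵥ v = -(v ⬝ᵥ X *ᵥ v) := by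
      conv_lhs => rw [Matrix.dotProduct_mulVec, ← Matrix.mulVec_transpose, hX, dotProduct_comm, Matrix.neg_mulVec,
        dotProduct_neg]
    linear_combination h1
  obtain ⟨m, b, hb1, hb2, hb3⟩ := CfsgLib.Classical.exists_sympBasis hA hN
  let e : Fin m ⊕ Fin m ≃ ι := b.indexEquiv (Pi.basisFun F ι)
  set P : Matrix ι ι F := Matrix.of fun i j => b (e.symm j) i
  have hP : P.transpose * X * P =
      Matrix.reindex e e (Matrix.fromBlocks 0 1 (-1) 0 : Matrix (Fin m ⊕ Fin m) (Fin m ⊕ Fin m) F) := by
    ext i j
    obtain ⟨i, rfl⟩ := e.surjective i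
    obtain ⟨j, rfl⟩ := e.surjective j
    have : (P.transpose * X * P) (e i) (e j) = B (b i) (b j) := by
      show _ = Matrix.toBilin' X (b i) (b j)
      rw [Matrix.toBilin'_apply', mul_assoc, Matrix.mul_apply]
      refine Finset.sum_congr rfl fun x _ => ?_
      simp [P, Matrix.mulVec, dotProduct, Matrix.mul_apply, Matrix.transpose_apply]
    rw [this, Matrix.reindex_apply, Matrix.submatrix_apply, e.symm_apply_apply, e.symm_apply_apply]
    rcases i with i | i <;> rcases j with j | j
    · simp [hb2]
    · simp [hb1, Matrix.one_apply]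
    · rw [Matrix.fromBlocks_apply₂₁, Matrix.neg_apply, Matrix.one_apply,
        show B (b (Sum.inr i)) (b (Sum.inl j)) = -B (b (Sum.inl j)) (b (Sum.inr i)) by
          rw [← hA.neg], hb1]
      by_cases hij : i = j
      · subst hij; simp
      · simp [hij, Ne.symm hij]
    · simp [hb3]
  have hJ : (Matrix.fromBlocks 0 1 (-1) 0 : Matrix (Fin m ⊕ Fin m) (Fin m ⊕ Fin m) F).det = 1 := by
    have e1 : (Matrix.fromBlocks 0 1 (-1) 0 : Matrix (Fin m ⊕ Fin m) (Fin m ⊕ Fin m) F) =
        Matrix.fromBlocks 1 1 0 1 * Matrix.fromBlocks 1 0 (-1) 1 * Matrix.fromBlocks 1 1 0 1 := by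
      simp [Matrix.fromBlocks_multiply]
    rw [e1, Matrix.det_mul, Matrix.det_mul, Matrix.det_fromBlocks_zero₂₁, Matrix.det_fromBlocks_zero₁₂]
    simp
  have := congrArg Matrix.det hP
  rw [Matrix.det_reindex_self, hJ, Matrix.det_mul, Matrix.det_mul, Matrix.det_transpose] at this
  exact ⟨P.det⁻¹, by
    have hp : P.det ≠ 0 := fun h => by simp [h] at this
    field_simp
    linear_combination this⟩

end CfsgLib.OrthSpecNine
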