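import Cfsg.Agent.Lib.Classical.OrthSpectrumNine.Targets
import Cfsg.Agent.Lib.Classical.OrthSpectrumNine.Spectrum
import Cfsg.Agent.Lib.Classical.OrthSpectrumNine.RootCases
import Cfsg.Agent.Lib.Orth.Bridge
import Cfsg.Agent.Lib.Orth.Standard

/-!
Elements of the eight dimensional plus type group whose regular part has no fixed vector.
-/

set_option autoImplicit false
set_option linter.unusedSectionVars false

namespace CfsgLib.OrthSpecNine

open Module QuadraticMap CfsgLib.Orth CfsgLib.Classical CfsgLib.Derangements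
open scoped Matrix

variable {F : Type*} [Field F] [Fintype F]

/-- The rank of powers of a map with nonzero power. -/
theorem rank_pow_add_le {K V : Type*} [Field K] [AddCommGroup V] [Module K V] [FiniteDimensional K V]
    (N : Module.End K V)
    {n : ℕ} (hn : N ^ n = 0) : ∀ j : ℕ, N ^ j ≠ 0 → finrank K (LinearMap.range (N ^ j)) + j ≤ finrank K V := by
  intro j
  induction j with
  | zero => intro _; simpa using Submodule.finrank_le (LinearMap.range (N ^ 0))
  | succ j ih =>
    intro hj
    have h1 := ih fun h => hj (by rw [pow_succ, h, zero_mul])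
    have hle : LinearMap.range (N ^ (j + 1)) ≤ LinearMap.range (N ^ j) := by
      rintro _ ⟨x, rfl⟩
      exact ⟨N x, by rw [pow_succ]; rfl⟩
    have hlt : LinearMap.range (N ^ (j + 1)) < LinearMap.range (N ^ j) := by
      refine lt_of_le_of_ne hle fun he => hj ?_
      have hst : ∀ l, LinearMap.range (N ^ (j + 1 + l)) = LinearMap.range (N ^ j) := by
        intro l
        induction l with
        | zero => exact he
        | succ l ihl =>
          rw [show j + 1 + (l + 1) = (j + 1 + l) + 1 by omega, pow_succ', Module.End.mul_eq_comp, LinearMap.range_comp,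
            ihl, ← LinearMap.range_comp, ← Module.End.mul_eq_comp, ← pow_succ', he]
      have h := hst n
      rw [pow_add, hn, mul_zero, LinearMap.range_zero, eq_comm, LinearMap.range_eq_bot] at h
      rw [pow_succ, h, zero_mul]
    have := Submodule.finrank_lt_finrank_of_lt hlt
    omega

/-- An orthogonal Jordan block of even size does not stand alone. -/
theorem add_two_le_finrank {V : Type*} [AddCommGroup V] [Module F V] [FiniteDimensional F V] [Finite V]
    {Q : QuadraticForm F V} (hQ : (polarBilin Q).Nondegenerate) (h2 : (2 : F) ≠ 0) (u : orthGroup Q) {k n : ℕ}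
    (hk : Odd k) (hn : ((u.1 : V →ₗ[F] V) - 1 : Module.End F V) ^ n = 0)
    (hne : ((u.1 : V →ₗ[F] V) - 1 : Module.End F V) ^ k ≠ 0) : k + 2 ≤ finrank F V := by
  have h1 := rank_pow_add_le _ hn k hne
  have h3 := OrthUnipotent.even_rank_odd_pow_sub_one h2 (B := polarBilin Q)
    (fun x y => by simp only [polarBilin_apply_apply]; exact polar_comm _ x y) (fun x hx => hQ.1 x hx)
    (L := (u.1 : V →ₗ[F] V)) (fun x y => polar_isom u x y) hn hk
  have h4 : finrank F (LinearMap.range (((u.1 : V →ₗ[F] V) - 1 : Module.End F V) ^ k)) ≠ 0 := fun h =>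
    hne (LinearMap.range_eq_bot.1 (Submodule.finrank_eq_zero.1 h))
  obtain ⟨c, hc⟩ := h3
  omega

/-- A root carrying a Jordan block. -/
theorem exists_block_root {ι : Type*} [Fintype ι] [DecidableEq ι] [DecidableEq (AlgebraicClosure F)]
    {A U : Matrix ι ι F} (hAU : A * U = U * A)
    {m : ℕ} (hA : A ^ m = 1) (hm : (m : F) ≠ 0) {k n : ℕ} (hk : (U - 1) ^ k ≠ 0) (hn : (U - 1) ^ n = 0) :
    ∃ a : AlgebraicClosure F, k + 1 ≤ (eigs A).count a ∧
      (a = -1 → ∃ x : ι → F, A *ᵥ x = -x ∧ ((U - 1) ^ k) *ᵥ x ≠ 0) := by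
  set ψ : Matrix ι ι F →+* Module.End (AlgebraicClosure F) (ι → (AlgebraicClosure F)) :=
    (Matrix.toLinAlgEquiv' (R := (AlgebraicClosure F)) (n := ι)).toAlgHom.toRingHom.comp (algebraMap F (AlgebraicClosure F)).mapMatrix with hψ
  have hψv : ∀ X v, ψ X v = (X.map (algebraMap F (AlgebraicClosure F))) *ᵥ v := fun X v => rfl
  have hψi : Function.Injective ψ :=
    (Matrix.toLinAlgEquiv' (R := (AlgebraicClosure F)) (n := ι)).injective.comp (Matrix.map_injective (algebraMap F (AlgebraicClosure F)).injective)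
  set f := ψ A with hf
  set N := ψ (U - 1) with hN
  have hm' : (m : (AlgebraicClosure F)) ≠ 0 := by rw [← map_natCast (algebraMap F (AlgebraicClosure F))]; exact (_root_.map_ne_zero _).2 hm
  have hss : f.IsSemisimple :=
    Module.End.isSemisimple_of_squarefree_aeval_eq_zero
      (Polynomial.separable_X_pow_sub_C (1 : (AlgebraicClosure F)) hm' one_ne_zero).squarefree
      (by rw [map_sub, map_pow, Polynomial.aeval_X, Polynomial.aeval_C, map_one, hf, ← map_pow, hA, map_one, sub_self])
  have htop := Module.End.iSup_maxGenEigenspace_eq_top f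
  rw [(hss.isFinitelySemisimple).iSup_maxGenEigenspace_eq_top_iff] at htop
  obtain ⟨a, x, hx, hxk⟩ : ∃ a, ∃ x ∈ f.eigenspace a, (N ^ k) x ≠ 0 := by
    by_contra hall
    push Not at hall
    refine hk (hψi ?_)
    rw [map_pow, ← hN, map_zero]
    refine LinearMap.ker_eq_top.1 (top_le_iff.1 ?_)
    rw [← htop]
    exact iSup_le fun a => fun x hx => LinearMap.mem_ker.2 (hall a x hx)
  have hinv : ∀ y ∈ f.eigenspace a, N y ∈ f.eigenspace a := fun y hy => by
    rw [Module.End.mem_eigenspace_iff] at hy ⊢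
    rw [← Module.End.mul_apply, hf, hN, ← map_mul, mul_sub, mul_one, hAU, map_sub, LinearMap.sub_apply, map_mul,
      Module.End.mul_apply, ← hf, hy, map_smul, map_sub, LinearMap.sub_apply, map_one, Module.End.one_apply, smul_sub]
  set N' : Module.End (AlgebraicClosure F) (f.eigenspace a) := N.restrict hinv
  have hpow : ∀ j (y : f.eigenspace a), ((N' ^ j) y : ι → (AlgebraicClosure F)) = (N ^ j) y := fun j => by
    induction j with
    | zero => exact fun y => rfl
    | succ j ih =>
      intro y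
      rw [pow_succ, pow_succ, Module.End.mul_apply, Module.End.mul_apply, ih]
      rfl
  have hN'k : N' ^ k ≠ 0 := fun h => hxk (by rw [← hpow k ⟨x, hx⟩, h]; rfl)
  have h1 := rank_pow_add_le N' (n := n)
    (LinearMap.ext fun y => Subtype.ext (by rw [hpow, hN, ← map_pow, hn, map_zero]; rfl)) k hN'k
  have h1' : finrank (AlgebraicClosure F) (LinearMap.range (N' ^ k)) ≠ 0 := fun h =>
    hN'k (LinearMap.range_eq_bot.1 (Submodule.finrank_eq_zero.1 h))
  have h3 : finrank (AlgebraicClosure F) (f.eigenspace a) ≤ (eigs A).count a := by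
    rw [eigs, Polynomial.count_roots, ← Matrix.charpoly_toLin']
    exact LinearMap.finrank_eigenspace_le f a
  refine ⟨a, by omega, fun ha => ?_⟩
  subst ha
  by_contra hall
  push Not at hall
  set S : Matrix ι ι F := ∑ i ∈ Finset.range m, (-A) ^ i with hS
  have hm1 : (-1 : (AlgebraicClosure F)) ^ m = 1 := eigs_pow_eq_one hA (Multiset.count_pos.1 (by omega))
  have hAm : (-A) ^ m = 1 := by
    rw [neg_pow, hA, mul_one]
    refine hψi ?_
    rw [map_pow, map_neg, map_one]
    refine LinearMap.ext fun v => ?_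
    rw [show ((-1 : Module.End (AlgebraicClosure F) (ι → (AlgebraicClosure F))) ^ m) = algebraMap (AlgebraicClosure F) _ ((-1) ^ m) by rw [map_pow, map_neg, map_one], hm1,
      map_one]
  have hfix : A * S = -S := by
    have h5 : (-A - 1) * S = 0 := by rw [hS, mul_geom_sum, hAm, sub_self]
    rw [sub_mul, one_mul, neg_mul, sub_eq_zero] at h5
    exact neg_eq_iff_eq_neg.1 h5
  have hzero : (U - 1) ^ k * S = 0 := Matrix.toLin'.injective (LinearMap.ext fun v => by
    rw [Matrix.toLin'_apply, map_zero, LinearMap.zero_apply, ← Matrix.mulVec_mulVec]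
    exact hall (S *ᵥ v) (by rw [Matrix.mulVec_mulVec, hfix, Matrix.neg_mulVec]))
  rw [Module.End.mem_eigenspace_iff, neg_one_smul] at hx
  have hSx : ψ S x = (m : (AlgebraicClosure F)) • x := by
    have hterm : ∀ i : ℕ, ψ ((-A) ^ i) x = x := fun i => by
      rw [map_pow, map_neg, ← hf]
      induction i with
      | zero => rfl
      | succ i ih => rw [pow_succ, Module.End.mul_apply, LinearMap.neg_apply, hx, neg_neg, ih]
    rw [hS, map_sum, LinearMap.sum_apply, Finset.sum_congr rfl fun i _ => hterm i,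
      Finset.sum_const, Finset.card_range, ← Nat.cast_smul_eq_nsmul (AlgebraicClosure F)]
  have h7 : (N ^ k) (ψ S x) = 0 := by
    rw [hN, ← map_pow, ← Module.End.mul_apply, ← map_mul, hzero, map_zero]; rfl
  rw [hSx, map_smul, smul_eq_zero] at h7
  exact hxk (h7.resolve_left hm')

section Plus

variable (p : ℕ) [hp : Fact p.Prime] [CharP F p]

/-- The Gram matrix. -/
noncomputable def gram (F : Type*) [Field F] : Matrix (Fin 4 ⊕ Fin 4) (Fin 4 ⊕ Fin 4) F :=
  LinearMap.toMatrix₂' F (polarBilin (plusForm F 4))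

theorem gram_apply (i j : Fin 4 ⊕ Fin 4) :
    gram F i j = polar (plusForm F 4) (Pi.single i 1) (Pi.single j 1) := by
  rw [gram, LinearMap.toMatrix₂'_apply, polarBilin_apply_apply]

theorem gram_det (h2 : (2 : F) ≠ 0) : (gram F).det ≠ 0 ∧ IsSquare (gram F).det := by
  classical
  have e : gram F = Matrix.fromBlocks 0 1 1 0 := by
    ext i j
    rw [gram_apply, plusForm_polar]
    rcases i with i | i <;> rcases j with j | j <;> simp [Pi.single_apply, Matrix.one_apply, eq_comm]
  have hsq : gram F * gram F = 1 := by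
    rw [e, Matrix.fromBlocks_multiply]; simp
  have h0 : (gram F).det ≠ 0 := fun h => by
    have := congrArg Matrix.det hsq
    rw [Matrix.det_mul, h, zero_mul, Matrix.det_one] at this
    exact zero_ne_one this
  refine ⟨h0, ?_⟩
  set D : Matrix (Fin 4 ⊕ Fin 4) (Fin 4 ⊕ Fin 4) F := Matrix.fromBlocks 1 0 0 (-1) with hD
  have hDd : D.det = 1 := by rw [hD, Matrix.det_fromBlocks_zero₂₁]; simp [Matrix.det_neg, even_iff_two_dvd, show (2:ℕ) ∣ 4 by norm_num]
  have hX : D * gram F = Matrix.fromBlocks 0 1 (-1) 0 := by rw [hD, e, Matrix.fromBlocks_multiply]; simp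
  have := isSquare_det_alt h2 (X := D * gram F)
    (by rw [hX, Matrix.fromBlocks_transpose, Matrix.fromBlocks_neg]; simp)
    (by rw [Matrix.det_mul, hDd, one_mul]; exact h0)
  rwa [Matrix.det_mul, hDd, one_mul] at this

theorem matOf_gram (g : orthGroup (plusForm F 4)) :
    (matOf _ g).transpose * gram F = gram F * matOf _ g⁻¹ := by
  have h : (matOf _ g).transpose * gram F * matOf _ g = gram F := by
    rw [gram, matOf]
    rw [← LinearMap.toMatrix₂'_compl₁₂]
    exact congrArg _ (LinearMap.ext fun x => LinearMap.ext fun y => polar_isom g x y)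
  calc (matOf _ g).transpose * gram F = (matOf _ g).transpose * gram F * (matOf _ g * matOf _ g⁻¹) := by
        rw [← matOf_mul, mul_inv_cancel, matOf_one, mul_one]
    _ = _ := by rw [← mul_assoc, h]

theorem matOf_pow (g : orthGroup (plusForm F 4)) : ∀ n : ℕ, matOf _ (g ^ n) = matOf _ g ^ n
  | 0 => by rw [pow_zero, pow_zero, matOf_one]
  | n + 1 => by rw [pow_succ, pow_succ, matOf_mul, matOf_pow g n]

/-- The vectors of norm one. -/
theorem card_level (q : ℕ) (hq : Fintype.card F = q) :
    Nat.card {v : Fin 4 ⊕ Fin 4 → F // plusForm F 4 v = 1} = q ^ 3 * (q ^ 4 - 1) := by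
  classical
  set Q := plusForm F 4
  have hscale : ∀ c : F, c ≠ 0 → Nat.card {v // Q v = c} = Nat.card {v // Q v = 1} := fun c hc => by
    let e : (Fin 4 ⊕ Fin 4 → F) ≃ (Fin 4 ⊕ Fin 4 → F) :=
      { toFun := fun v => Sum.elim (fun i => c⁻¹ * v (.inl i)) (fun i => v (.inr i))
        invFun := fun v => Sum.elim (fun i => c * v (.inl i)) (fun i => v (.inr i))
        left_inv := fun v => funext fun k => by rcases k with i | i <;> simp [hc]
        right_inv := fun v => funext fun k => by rcases k with i | i <;> simp [hc] }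
    refine Nat.card_congr (e.subtypeEquiv fun v => ?_)
    show Q v = c ↔ Q (Sum.elim _ _) = 1
    rw [← plusForm_apply, ← plusForm_apply]
    simp only [Cfsg.quadFormPlus, Sum.elim_inl, Sum.elim_inr, mul_assoc, ← Finset.mul_sum]
    exact ⟨fun h => by rw [h, inv_mul_cancel₀ hc], fun h => by
      have := congrArg (c * ·) h
      simpa [← mul_assoc, hc] using this⟩
  have hnd := plusForm_nondeg (F := F) 4
  have hdim : finrank F (Fin 4 ⊕ Fin 4 → F) = 2 * 4 := by simp
  have hz := (EvenForms.zeroCount_eq hnd hq (by norm_num) hdim).1 (EvenForms.plus_plusForm 4)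
  have htot : zeroCount Q + (q - 1) * Nat.card {v // Q v = 1} = q ^ 8 := by
    have h := Nat.card_congr (Equiv.sigmaFiberEquiv Q)
    rw [Nat.card_sigma, ← Finset.add_sum_erase _ _ (Finset.mem_univ (0 : F)),
      Finset.sum_const_nat (fun c hc => hscale c (Finset.ne_of_mem_erase hc)),
      Finset.card_erase_of_mem (Finset.mem_univ _), Finset.card_univ, hq] at h
    rw [show q ^ 8 = Nat.card (Fin 4 ⊕ Fin 4 → F) by
      rw [Nat.card_fun, Nat.card_eq_fintype_card (α := F), hq]; simp]
    exact h
  have hq2 : 2 ≤ q := hq ▸ Fintype.one_lt_card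
  zify [Nat.one_le_pow 4 q (by omega), show 1 ≤ q by omega] at htot ⊢
  simp only [show (4 : ℕ) - 1 = 3 from rfl] at hz
  refine mul_left_cancel₀ (show (q : ℤ) - 1 ≠ 0 by omega) ?_
  linear_combination htot - hz

/-- The possibilities for the order. -/
theorem plus_side (h2 : (2 : F) ≠ 0) {M : Type*} [AddCommGroup M] [Module F M] [FiniteDimensional F M] [Finite M]
    {R : QuadraticForm F M} (hR : (polarBilin R).Nondegenerate) (hMd : finrank F M = 8)
    (hM : ¬ OrthInv.PlusOn R ⊤) (s u : orthGroup (plusForm F 4)) (hsu : Commute s u)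
    (hs : chi _ s = 1) (hfix : ∀ x, s.1 x = x → x = 0) (hm : ¬ p ∣ orderOf s) {e : ℕ}
    (hu : orderOf u = p ^ e) : Reach R (orderOf s * p ^ e) := by
  classical
  have hQ := plusForm_nondeg (F := F) 4
  set q := Fintype.card F with hqdef
  have hqodd : Odd q := Nat.odd_iff.2 (FiniteField.odd_card_of_char_ne_two fun hc => h2 (by
    haveI : CharP F 2 := ringChar.of_eq hc
    exact CharTwo.two_eq_zero))
  have hq3 : 3 ≤ q := by
    have := Fintype.one_lt_card (α := F)
    have := Nat.odd_iff.1 hqodd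
    omega
  set m := orderOf s with hmdef
  haveI := isFinite_orth (plusForm F 4)
  have hm0 : (m : F) ≠ 0 := fun h => hm ((CharP.cast_eq_zero_iff F p m).1 h)
  set A := matOf _ s with hA
  have hAm : A ^ m = 1 := by rw [hA, ← matOf_pow, pow_orderOf_eq_one, matOf_one]
  set L := AlgebraicClosure F
  set Λ := eigs A with hΛ
  have hAB : A * matOf _ s⁻¹ = 1 := by rw [hA, ← matOf_mul, mul_inv_cancel, matOf_one]
  have hA1 : (A - 1).det ≠ 0 := fun h => by
    obtain ⟨v, hv, e⟩ := Matrix.exists_mulVec_eq_zero_iff.mpr h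
    rw [Matrix.sub_mulVec, Matrix.one_mulVec, sub_eq_zero, hA, matOf_mulVec] at e
    exact hv (hfix v e)
  have hdetA : A.det = 1 := by
    have h := congrArg (fun x : Fˣ × ℤˣ => ((x.1 : Fˣ) : F)) hs
    rw [hA, matOf, LinearMap.det_toMatrix']
    simpa [chi] using h
  obtain ⟨⟨f₀, hf₀⟩, hp', hcard⟩ := FiniteField.card F p
  haveI : CharP L p := charP_of_injective_algebraMap (algebraMap F L).injective p
  have hfr : ∀ a : L, a ^ q = iterateFrobenius L p f₀ a := fun a => by
    rw [iterateFrobenius_def, hqdef, hcard]; rfl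
  have H : RootSet Λ q :=
    { card := by rw [hΛ, card_eigs]; simp
      frob := eigs_frob A
      inv := eigs_inv hAB (gram_det h2).1 (matOf_gram s)
      inj := fun a b h => by
        simp only [hfr] at h
        exact (iterateFrobenius L p f₀).injective h
      sub := fun a b => by rw [hfr, hfr, hfr, map_sub]
      one := one_notMem_eigs hA1
      zero := fun h0 => by
        have := eigs_pow_eq_one hAm h0
        rw [zero_pow (orderOf_pos s).ne'] at this
        exact zero_ne_one this
      odd := hqodd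
      three := hq3
      two := by rw [← map_ofNat (algebraMap F L) 2]; exact (_root_.map_ne_zero _).2 h2 }
  have hdvd : ∀ {l : ℕ}, (∀ a ∈ Λ, a ^ l = 1) → m ∣ l := fun {l} h => by
    rw [hmdef, orderOf_dvd_iff_pow_eq_one]
    have h1 := pow_eq_scalar hAm hm0 (c := 1) (L := l) (fun a ha => by rw [map_one]; exact h a ha)
    rw [one_smul, hA, ← matOf_pow] at h1
    refine Subtype.ext (LinearEquiv.ext fun v => ?_)
    rw [← matOf_mulVec, h1, Matrix.one_mulVec]
    rfl
  rcases Nat.eq_zero_or_pos e with rfl | he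
  · rw [pow_zero, mul_one]
    obtain ⟨ha, hb⟩ := reach_cube p hR h2 hMd
    have hΔ : (-1 : L) ∉ Λ → ∃ c : L, c ^ q = c ∧ c * c = (Λ.map fun a => a * a - 1).prod := fun hneg => by
      have hd : (A * A - 1).det ≠ 0 := fun h => by
        have := det_sq_sub_one A
        rw [h, map_zero, eq_comm, Multiset.prod_eq_zero_iff, Multiset.mem_map] at this
        obtain ⟨a, ha, ha0⟩ := this
        rcases mul_self_eq_one_iff.1 (sub_eq_zero.1 ha0) with rfl | rfl
        · exact H.one ha
        · exact hneg ha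
      have hBA : matOf _ s⁻¹ * A = 1 := by rw [hA, ← matOf_mul, inv_mul_cancel, matOf_one]
      have hGs : (gram F).transpose = gram F := by
        ext i j; rw [Matrix.transpose_apply, gram_apply, gram_apply, polar_comm]
      have hdAB : (A - matOf _ s⁻¹).det = (A * A - 1).det := by
        rw [show A * A - 1 = A * (A - matOf _ s⁻¹) by rw [mul_sub, hAB], Matrix.det_mul, hdetA, one_mul]
      have hsq := isSquare_det_alt h2 (X := gram F * (A - matOf _ s⁻¹)) (by
        have e1 := matOf_gram s
        have e2 := matOf_gram s⁻¹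
        rw [inv_inv] at e2
        rw [Matrix.transpose_mul, Matrix.transpose_sub, hGs, sub_mul, e1, e2, ← mul_sub, ← mul_neg, neg_sub])
        (by rw [Matrix.det_mul, hdAB]; exact mul_ne_zero (gram_det h2).1 hd)
      rw [Matrix.det_mul, hdAB] at hsq
      obtain ⟨hg0, g, hg⟩ := gram_det (F := F) h2
      obtain ⟨c, hc⟩ := hsq
      refine ⟨algebraMap F L (c / g), by rw [← map_pow, FiniteField.pow_card], ?_⟩
      rw [← det_sq_sub_one, ← map_mul]
      congr 1
      have : g ≠ 0 := fun h => hg0 (by rw [hg, h, mul_zero])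
      field_simp
      linear_combination -hc + (A * A - 1).det * hg
    rcases H.cases_zero hΔ with h | h | h | h
    · exact (reach_quartic p hR h2 hMd hM).of_dvd (hdvd h)
    · exact ha.of_dvd (hdvd h)
    · exact hb.of_dvd (hdvd h)
    · -- all eigenvalues have the largest two part
      exfalso
      set Lh := (q ^ 4 - 1) / 2 with hLh
      obtain ⟨-, -, -, -, hE, -⟩ := H.arith
      have hneg : A ^ Lh = (-1 : F) • (1 : Matrix _ _ F) :=
        pow_eq_scalar hAm hm0 (fun a ha => by rw [map_neg, map_one]; exact h a ha)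
      have hL0 : Lh ≠ 0 := fun h0 => by
        rw [← hLh, h0, mul_zero] at hE
        have : 1 < q ^ 4 := Nat.one_lt_pow (by norm_num) (by omega)
        omega
      obtain ⟨t, K, hK, htK⟩ : ∃ t K, Odd K ∧ Lh = 2 ^ t * K :=
        ⟨Lh.factorization 2, Lh / 2 ^ Lh.factorization 2, Nat.odd_iff.2 (by
          have := Nat.not_dvd_ordCompl Nat.prime_two hL0
          omega), (Nat.ordProj_mul_ordCompl_eq_self _ _).symm⟩
      set z := s ^ K with hz
      have hzneg : ∀ x, (z ^ 2 ^ t).1 x = -x := fun x => by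
        rw [hz, ← pow_mul, mul_comm, ← htK, ← matOf_mulVec, matOf_pow, ← hA, hneg, Matrix.smul_mulVec,
          Matrix.one_mulVec, neg_one_smul]
      have hztot : z ^ 2 ^ (t + 1) = 1 := Subtype.ext (LinearEquiv.ext fun x => by
        rw [pow_succ, pow_mul, pow_two]
        show (z ^ 2 ^ t).1 ((z ^ 2 ^ t).1 x) = x
        rw [hzneg, hzneg, neg_neg])
      have hper : ∀ x, x ≠ 0 → ∀ n : ℕ, (z ^ n).1 x = x → 2 ^ (t + 1) ∣ n := fun x hx n hn => by
        by_contra hnd
        obtain ⟨i, hi, hg⟩ := (Nat.dvd_prime_pow Nat.prime_two).1 (Nat.gcd_dvd_left (2 ^ (t + 1)) n)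
        have hit : i < t + 1 := lt_of_le_of_ne hi fun e => hnd (by rw [← e, ← hg]; exact Nat.gcd_dvd_right _ _)
        obtain ⟨b, -, hb⟩ := Nat.exists_mul_mod_eq_gcd (n := n) (k := 2 ^ (t + 1)) (by
          rw [Nat.gcd_comm, hg]; exact Nat.pow_lt_pow_right one_lt_two hit)
        rw [Nat.gcd_comm, hg] at hb
        have hpn : (z ^ (n * b)).1 x = x := by
          rw [pow_mul]; exact pow_fix hn b
        have hsplit : z ^ (n * b) = z ^ (2 ^ i) := by
          rw [← Nat.div_add_mod (n * b) (2 ^ (t + 1)), hb, pow_add, pow_mul, hztot, one_pow, one_mul]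
        rw [hsplit] at hpn
        have h8 : (z ^ 2 ^ t).1 x = x := by
          rw [show 2 ^ t = 2 ^ i * 2 ^ (t - i) by rw [← pow_add]; congr 1; omega, pow_mul]
          exact pow_fix hpn _
        rw [hzneg, neg_eq_iff_add_eq_zero, ← two_smul F, smul_eq_zero] at h8
        exact h8.elim h2 hx
      letI : Fintype {v : Fin 4 ⊕ Fin 4 → F // plusForm F 4 v = 1} := Fintype.ofFinite _
      set σ := levelPerm (plusForm F 4) 1 z with hσ
      have hne0 : ∀ x : {v : Fin 4 ⊕ Fin 4 → F // plusForm F 4 v = 1}, x.1 ≠ 0 := fun x h0 => by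
        have := x.2
        rw [h0, QuadraticMap.map_zero] at this
        exact zero_ne_one this
      have hiff : ∀ (x : {v : Fin 4 ⊕ Fin 4 → F // plusForm F 4 v = 1}) (n : ℕ), (σ ^ n) x = x ↔ 2 ^ (t + 1) ∣ n :=
        fun x n => by
          rw [hσ, ← map_pow, ← Subtype.val_inj, levelPerm_apply]
          refine ⟨hper _ (hne0 x) n, fun ⟨c, hc⟩ => ?_⟩
          rw [hc, pow_mul, hztot, one_pow]; rfl
      have h2dvd : 2 ∣ 2 ^ (t + 1) := dvd_pow_self 2 (Nat.succ_ne_zero t)
      obtain ⟨k, hk, hsign⟩ := sign_of_uniform σ (even_iff_two_dvd.2 h2dvd) fun x _ n => hiff x n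
      have hsupp : σ.support = Finset.univ := Finset.eq_univ_of_forall fun x => by
        rw [Equiv.Perm.mem_support]
        intro h9
        have := (hiff x 1).1 (by rwa [pow_one])
        have h10 := Nat.le_of_dvd one_pos (h2dvd.trans this)
        omega
      rw [hsupp, Finset.card_univ, ← Nat.card_eq_fintype_card, card_level q rfl, ← hE] at hk
      have hk' : k = q ^ 3 * K := by
        refine Nat.eq_of_mul_eq_mul_left (pow_pos two_pos (t + 1)) ?_
        rw [← hk, hE, ← hE, show (q ^ 4 - 1) / 2 = Lh from rfl, htK, pow_succ]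
        ring
      have hlev : levelSign (plusForm F 4) 1 z = 1 := by
        have h11 : chi (plusForm F 4) z = 1 := by rw [hz, map_pow, hs, one_pow]
        exact congrArg Prod.snd h11
      rw [hk', (hqodd.pow.mul hK).neg_one_pow] at hsign
      unfold levelSign at hlev
      rw [MonoidHom.comp_apply, ← hσ] at hlev
      have hne1 : (-1 : ℤˣ) ≠ 1 := by decide
      exact hne1 (hsign.symm.trans (by convert hlev using 3))
  -- a nontrivial unipotent part
  obtain ⟨e, rfl⟩ : ∃ e', e = e' + 1 := ⟨e - 1, by omega⟩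
  set k := p ^ e with hk
  set U := matOf _ u with hU
  have hAU : A * U = U * A := by rw [hA, hU, ← matOf_mul, ← matOf_mul, hsu.eq]
  have hUmap : ∀ j : ℕ, Matrix.toLinAlgEquiv' ((U - 1) ^ j) =
      ((u.1 : _ →ₗ[F] _) - 1 : Module.End F (Fin 4 ⊕ Fin 4 → F)) ^ j := fun j => by
    rw [map_pow, map_sub, map_one]
    congr 2
    exact LinearMap.ext fun v => matOf_mulVec _ u v
  have hpowu : ∀ j : ℕ, ((u.1 : _ →ₗ[F] _) - 1 : Module.End F (Fin 4 ⊕ Fin 4 → F)) ^ p ^ j = 0 ↔ u ^ p ^ j = 1 :=
    fun j => by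
      rw [sub_one_pow p, sub_eq_zero]
      exact ⟨fun h => Subtype.ext (LinearEquiv.ext fun x => by rw [coe_pow_apply, h]; rfl),
        fun h => LinearMap.ext fun x => by rw [← coe_pow_apply, h]; rfl⟩
  have hUk : (U - 1) ^ k ≠ 0 := fun h => by
    have h1 := hUmap k
    rw [h, map_zero, eq_comm, hk, hpowu, ← orderOf_dvd_iff_pow_eq_one, hu] at h1
    have := Nat.le_of_dvd (pow_pos hp.out.pos e) h1
    exact absurd this (not_le.2 (Nat.pow_lt_pow_right hp.out.one_lt (lt_add_one e)))
  have hUn : (U - 1) ^ (p ^ (e + 1)) = 0 := (Matrix.toLinAlgEquiv' (R := F)).injective (by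
    rw [hUmap, map_zero, hpowu, ← hu, pow_orderOf_eq_one])
  have hkodd : Odd k := (hp.out.odd_of_ne_two (char_ne_two (F := F) p h2)).pow
  obtain ⟨a, hac, hax⟩ := exists_block_root hAU hAm hm0 hUk hUn
  have hneg : a = -1 → k + 2 ≤ Λ.count a := fun ha => by
    obtain ⟨x, hx, hxk⟩ := hax ha
    obtain ⟨ng, hng⟩ := exists_of_preserving hQ (-LinearMap.id) fun v => by simp
    have hng' : ∀ v, ng.1 v = -v := fun v => hng v
    set h := ng * s with hh
    have hcomm : Commute ng s := Subtype.ext (LinearEquiv.ext fun v => by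
      show ng.1 (s.1 v) = s.1 (ng.1 v)
      rw [hng', hng', map_neg])
    have hcu : Commute ng u := Subtype.ext (LinearEquiv.ext fun v => by
      show ng.1 (u.1 v) = u.1 (ng.1 v)
      rw [hng', hng', map_neg])
    have hng2 : ng ^ 2 = 1 := Subtype.ext (LinearEquiv.ext fun v => by
      rw [pow_two]; show ng.1 (ng.1 v) = v; rw [hng', hng', neg_neg])
    have hhm : h ^ (2 * m) = 1 := by
      rw [hh, hcomm.mul_pow, pow_mul ng, hng2, one_pow, one_mul, mul_comm, pow_mul, pow_orderOf_eq_one, one_pow]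
    have hE := fixSub_nondeg hQ hhm (by push_cast; exact mul_ne_zero h2 hm0)
    set E := fixSub h
    have huE : u ∈ stab (Q := plusForm F 4) E :=
      mem_stab_of_le fun v hv => apply_fixSub_of_commute (hcu.mul_left hsu) hv
    set u' := resHom E ⟨u, huE⟩
    have hpw : ∀ (j : ℕ) (v : E), (((((u'.1 : E →ₗ[F] E) - 1 : Module.End F E) ^ j) v : E) : Fin 4 ⊕ Fin 4 → F) =
        (((u.1 : _ →ₗ[F] _) - 1 : Module.End F (Fin 4 ⊕ Fin 4 → F)) ^ j) v := fun j => by
      induction j with
      | zero => exact fun v => rfl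
      | succ j ih =>
        intro v
        rw [pow_succ, pow_succ, Module.End.mul_apply, Module.End.mul_apply, ih]
        rfl
    have hxE : x ∈ E := mem_fixSub.2 (by
      show ng.1 (s.1 x) = x
      rw [hng', ← matOf_mulVec, ← hA, hx, neg_neg])
    have h12 := add_two_le_finrank (OrthInv.comp_nondeg hE) h2 u' hkodd (n := p ^ (e + 1))
      (LinearMap.ext fun v => Subtype.ext (by
        rw [hpw, ← hUmap, hUn, map_zero]; rfl))
      (fun h0 => hxk (by
        have := hpw k ⟨x, hxE⟩
        rw [h0, ← hUmap] at this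
        exact this.symm))
    refine h12.trans ?_
    subst ha
    have h13 : finrank F E ≤ ((matOf _ s).charpoly).rootMultiplicity (-1) := by
      rw [← Matrix.charpoly_toLin']
      refine le_trans (Submodule.finrank_mono fun v hv => ?_) (LinearMap.finrank_eigenspace_le (Matrix.toLin' (matOf _ s)) (-1 : F))
      rw [Module.End.mem_eigenspace_iff, neg_one_smul, Matrix.toLin'_apply, matOf_mulVec]
      have h14 : ng.1 (s.1 v) = v := mem_fixSub.1 hv
      rw [hng'] at h14
      exact neg_eq_iff_eq_neg.1 h14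
    refine h13.trans ?_
    rw [hΛ, eigs, Polynomial.count_roots, Matrix.charpoly_map,
      Polynomial.eq_rootMultiplicity_map (algebraMap F L).injective (-1 : F), map_neg, map_one]
  rw [show p ^ (e + 1) = p * k by rw [hk, pow_succ, mul_comm]]
  rcases Nat.eq_zero_or_pos e with rfl | he1
  · rw [hk, pow_zero] at hac hneg
    obtain ⟨r1, r2, r3⟩ := reach_first p hR h2 hMd
    rw [hk, pow_zero, mul_one]
    rcases H.cases_one hac hneg with h | h | h
    · exact r1.of_dvd (Nat.mul_dvd_mul_right (hdvd h) p)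
    · exact r2.of_dvd (Nat.mul_dvd_mul_right (hdvd h) p)
    · exact r3.of_dvd (Nat.mul_dvd_mul_right (hdvd h) p)
  have hp3 : 3 ≤ p := by
    have := hp.out.two_le
    have := char_ne_two (F := F) p h2
    omega
  have hk3 : 3 ≤ k := le_trans hp3 (le_of_eq_of_le (pow_one p).symm (Nat.pow_le_pow_right hp.out.pos he1))
  have hkp : ∀ n, n.Prime → k = n → p = n ∧ p * k = p ^ 2 := fun n hn hkn => by
    have hpn : p = n := (Nat.prime_dvd_prime_iff_eq hp.out hn).1 (hkn ▸ hk ▸ dvd_pow_self p (by omega))
    exact ⟨hpn, by rw [hkn, ← hpn, pow_two]⟩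
  rcases H.cases_high hk3 hkodd hac hneg with ⟨hk', h | h⟩ | ⟨hk', h⟩
  · obtain ⟨hpn, he2⟩ := hkp 3 Nat.prime_three hk'
    rw [he2]
    exact ((reach_second p hR h2 hMd hpn).2).of_dvd (Nat.mul_dvd_mul_right (hdvd h) _)
  · obtain ⟨hpn, he2⟩ := hkp 3 Nat.prime_three hk'
    rw [he2]
    exact ((reach_second p hR h2 hMd hpn).1).of_dvd (Nat.mul_dvd_mul_right (hdvd h) _)
  · obtain ⟨hpn, he2⟩ := hkp 5 (by norm_num) hk'
    rw [he2]
    exact (reach_fifty p hR h2 hMd hpn).of_dvd (Nat.mul_dvd_mul_right (hdvd h) _)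

end Plus

end CfsgLib.OrthSpecNine
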