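import Cfsg.Agent.Lib.Classical.OrthSpectrumNine.Gadgets

/-!
Elements of large order in the affine orthogonal group of an eight dimensional space of minus type.
-/

set_option autoImplicit false
set_option linter.unusedSectionVars false

namespace CfsgLib.OrthSpecNine

open Module QuadraticMap CfsgLib.Orth CfsgLib.Classical CfsgLib.Derangements

variable {F : Type*} [Field F] [Fintype F] {V : Type*} [AddCommGroup V] [Module F V] [FiniteDimensional F V]
  [Finite V] {Q : QuadraticForm F V}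

/-- Some element of `V ⋊ Ω(Q)` has order a multiple of `D`. -/
def Reach (Q : QuadraticForm F V) (D : ℕ) : Prop :=
  ∃ (h : orthGroup Q) (v : V), chi Q h = 1 ∧
    ∀ n : ℕ, h ^ n = 1 → (∑ i ∈ Finset.range n, (h ^ i).1 v) = 0 → D ∣ n

theorem Reach.of_dvd {D D' : ℕ} (h : Reach Q D) (hd : D' ∣ D) : Reach Q D' := by
  obtain ⟨g, v, hg, hv⟩ := h
  exact ⟨g, v, hg, fun n hn hn' => hd.trans (hv n hn hn')⟩

theorem reach_of_pow {h : orthGroup Q} (hc : chi Q h = 1) {D : ℕ} (hD : ∀ n : ℕ, h ^ n = 1 → D ∣ n) : Reach Q D :=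
  ⟨h, 0, hc, fun n hn _ => hD n hn⟩

variable (p : ℕ) [hp : Fact p.Prime] [CharP F p]

/-- A Jordan block with a vector adds one power of `p`. -/
theorem reach_of_block {h : orthGroup Q} (hc : chi Q h = 1) (u : orthGroup Q) (v : V)
    (hv : ∀ i, (h ^ i).1 v = (u ^ i).1 v) {j L : ℕ} (hu : ((u.1 : V →ₗ[F] V) - 1 : Module.End F V) ^ p ^ j = 0)
    (hne : (((u.1 : V →ₗ[F] V) - 1 : Module.End F V) ^ (p ^ j - 1)) v ≠ 0)
    (hL : ∀ n : ℕ, h ^ n = 1 → L ∣ n) (hpL : ¬ p ∣ L) : Reach Q (L * p ^ (j + 1)) := by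
  refine ⟨h, v, hc, fun n hn hs => (Nat.Coprime.pow_right _ ((hp.out.coprime_iff_not_dvd).2 hpL).symm).mul_dvd_of_dvd_of_dvd
    (hL n hn) ?_⟩
  refine affine_bound (F := F) p (h.1 : V →ₗ[F] V) (u.1 : V →ₗ[F] V) v (fun i => ?_) ?_ hne ?_ ?_
  · rw [← coe_pow_apply, ← coe_pow_apply]; exact hv i
  · rw [sub_one_pow p, sub_eq_zero] at hu; exact hu
  · exact LinearMap.ext fun x => by rw [← coe_pow_apply, hn]; rfl
  · rw [← hs]; exact Finset.sum_congr rfl fun i _ => (coe_pow_apply h i v).symm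

/-- A torus piece inside a subspace. -/
theorem exists_torus_in (hQ : (polarBilin Q).Nondegenerate) (h2 : (2 : F) ≠ 0) {X : Submodule F V}
    (hX : NondegOn (polarBilin Q) X) (K : Type*) [Field K] [Fintype K] [Algebra F K] {d : K} (hd : d ≠ 0) {j : ℕ}
    (hj : finrank F K = j) (hdim : 2 * j + 2 ≤ finrank F X) :
    ∃ (Y : Submodule F V) (g : orthGroup Q) (N : ℕ), Y ≤ X ∧ NondegOn (polarBilin Q) Y ∧ finrank F Y = 2 * j ∧
      Supp g Y ∧ chi Q g = (1, -1) ∧ (∀ n : ℕ, g ^ n = 1 → N ∣ n) ∧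
      (d = 1 → N = Fintype.card K - 1 ∧ OrthInv.PlusOn Q Y) ∧ (¬ IsSquare d → N = Fintype.card K + 1) := by
  classical
  haveI : FiniteDimensional F K := Module.Finite.of_finite
  obtain ⟨R, φ, T, N, -, hR, hnd, hchi, hN0, -, hper, h1, h3⟩ := exists_torus_model h2 K hd
  have hW : finrank F (K × K) = 2 * j := by rw [Module.finrank_prod, hj, two_mul]
  obtain ⟨Y, J, hYX, hY, hYd, hYp, hJ, hJi⟩ := exists_piece_in hQ h2 hX hnd hW (Or.inl hdim)
  refine ⟨Y, J T, N, hYX, hY, hYd, (hJ T).1, (hJ T).2.trans hchi, fun n hn => ?_,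
    fun hd1 => ⟨h1 hd1, hYp.2 ?_⟩, h3⟩
  · rw [← map_pow] at hn
    have h4 := hJi (hn.trans (map_one J).symm)
    refine (hper (1, 0) (fun h => one_ne_zero (congrArg Prod.fst h)) n).1 ?_
    rw [h4]; rfl
  · subst hd1
    let ι₀ : K →ₗ[F] K × K := LinearMap.id.prod LinearMap.id
    refine ⟨LinearMap.range ι₀, le_top, ?_, ?_⟩
    · rintro _ ⟨x, rfl⟩
      rw [hR, show qnorm (1 : K) (ι₀ x) = 0 by simp [qnorm, ι₀], map_zero]
    · rw [LinearMap.finrank_range_of_inj (fun x y h => congrArg Prod.fst h), finrank_top, hW, hj]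

theorem not_dvd_sq_add_one {q : ℕ} (hq : 3 ≤ q) : ¬ q ^ 2 + 1 ∣ (q ^ 2 - 1) * (q + 1) := by
  intro h
  have h1 : q ^ 2 + 1 ∣ (q ^ 2 + 1) * (q + 1) := dvd_mul_right _ _
  have h2 : (q ^ 2 + 1) * (q + 1) - (q ^ 2 - 1) * (q + 1) = 2 * (q + 1) := by
    rw [← Nat.sub_mul]
    congr 1
    have : 1 ≤ q ^ 2 := Nat.one_le_pow _ _ (by omega)
    omega
  have h3 := Nat.dvd_sub h1 h
  rw [h2] at h3
  have h4 := Nat.le_of_dvd (by omega) h3
  rcases Nat.lt_or_ge q 4 with h5 | h5
  · obtain rfl : q = 3 := by omega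
    norm_num at h3
  · nlinarith

/-- A nonsplit torus piece of dimension four is of minus type. -/
theorem torus_four_not_plus (h2 : (2 : F) ≠ 0) (K : Type*) [Field K] [Fintype K] [Algebra F K]
    (hj : finrank F K = 2) {R : QuadraticForm F (K × K)} (hR : (polarBilin R).Nondegenerate) (T : orthGroup R) {N : ℕ}
    (hN : N = Fintype.card K + 1) (hev : Even N) (hper : ∀ x, x ≠ 0 → ∀ n : ℕ, (T ^ n).1 x = x ↔ N ∣ n) :
    ¬ OrthInv.PlusOn R ⊤ := by
  classical
  haveI : FiniteDimensional F K := Module.Finite.of_finite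
  have hW : finrank F (K × K) = 2 * 2 := by rw [Module.finrank_prod, hj]
  rw [OrthInv.plusOn_top_iff hW]
  intro hplus
  have hz := (EvenForms.zeroCount_eq hR rfl (by norm_num) hW).1 hplus
  letI : Fintype {x : K × K // R x = 0} := Fintype.ofFinite _
  set σ := levelPerm R 0 T with hσ
  have hsupp : σ.support = Finset.univ.erase ⟨0, QuadraticMap.map_zero R⟩ := by
    ext x
    rw [Equiv.Perm.mem_support, Finset.mem_erase]
    simp only [Finset.mem_univ, and_true, ne_eq, not_iff_not]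
    constructor
    · intro h
      by_contra hx
      have hx' : x.1 ≠ 0 := fun h' => hx (Subtype.ext h')
      have := (hper x.1 hx' 1).1 (by rw [pow_one]; exact congrArg Subtype.val h)
      rw [Nat.dvd_one.1 this] at hev
      exact absurd hev (by decide)
    · intro h
      exact Subtype.ext (by rw [hσ, levelPerm_apply, h]; exact map_zero _)
  obtain ⟨k, hk, -⟩ := sign_of_uniform σ hev fun x hx m => by
    have hx' : x.1 ≠ 0 := fun h => hx (Subtype.ext (by rw [hσ, levelPerm_apply, h, map_zero]))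
    rw [← hper x.1 hx' m, hσ, ← map_pow, ← levelPerm_apply R 0 (T ^ m) x, Subtype.val_inj]
  rw [hsupp, Finset.card_erase_of_mem (Finset.mem_univ _), Finset.card_univ, ← Nat.card_eq_fintype_card] at hk
  set q := Fintype.card F with hq
  have hQ2 : Fintype.card K = q ^ 2 := by
    rw [Module.card_eq_pow_finrank (K := F), hj]
  have hpos : 1 ≤ Nat.card {x : K × K // R x = 0} :=
    haveI : Nonempty {x : K × K // R x = 0} := ⟨⟨0, QuadraticMap.map_zero R⟩⟩
    Nat.card_pos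
  have hq3 : 3 ≤ q := by
    have h4 : q % 2 = 1 := FiniteField.odd_card_of_char_ne_two fun hc => h2 (by
      haveI : CharP F 2 := ringChar.of_eq hc
      exact CharTwo.two_eq_zero)
    have := Fintype.one_lt_card (α := F)
    omega
  refine not_dvd_sq_add_one hq3 ⟨k, ?_⟩
  have h5 : ((q ^ 2 - 1) * (q + 1) : ℕ) = Nat.card {x : K × K // R x = 0} - 1 := by
    have h7 : 1 ≤ q ^ 2 := Nat.one_le_pow _ _ (by omega)
    zify [h7, hpos]
    simp only [show (2 : ℕ) - 1 = 1 from rfl, pow_one] at hz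
    exact hz.symm
  rw [h5, hk, hN, hQ2]

theorem char_ne_two (h2 : (2 : F) ≠ 0) : p ≠ 2 := fun h => h2 (by
  subst h; exact CharP.cast_eq_zero F 2)

theorem not_dvd_of_cast_one {n : ℕ} (h : (n : F) = 1 ∨ (n : F) = -1) : ¬ p ∣ n := fun hn => by
  rw [(CharP.cast_eq_zero_iff F p n).2 hn] at h
  rcases h with h | h
  · exact zero_ne_one h
  · exact neg_ne_zero.2 one_ne_zero h.symm

theorem card_pow_add_one {k : ℕ} (hk : k ≠ 0) : ¬ p ∣ Fintype.card F ^ k + 1 :=
  not_dvd_of_cast_one (F := F) p (Or.inl (by push_cast; rw [FiniteField.cast_card_eq_zero, zero_pow hk, zero_add]))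

theorem card_pow_sub_one {k : ℕ} (hk : k ≠ 0) : ¬ p ∣ Fintype.card F ^ k - 1 :=
  not_dvd_of_cast_one (F := F) p (Or.inr (by
    rw [Nat.cast_sub (Nat.one_le_pow _ _ Fintype.card_pos)]
    push_cast
    rw [FiniteField.cast_card_eq_zero, zero_pow hk, zero_sub]))

theorem not_dvd_lcm {a b : ℕ} (ha : ¬ p ∣ a) (hb : ¬ p ∣ b) : ¬ p ∣ Nat.lcm a b := fun h =>
  (hp.out.dvd_mul.1 (h.trans (Nat.lcm_dvd_mul a b))).elim ha hb

theorem nondegOn_top (hQ : (polarBilin Q).Nondegenerate) : NondegOn (polarBilin Q) ⊤ :=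
  nondegOn_iff.2 fun x _ h => hQ.2 x fun v => h v trivial

include p hp in
/-- `q³ ± 1`. -/
theorem reach_cube (hQ : (polarBilin Q).Nondegenerate) (h2 : (2 : F) ≠ 0) (hV : finrank F V = 8) :
    Reach Q (Fintype.card F ^ 3 - 1) ∧ Reach Q (Fintype.card F ^ 3 + 1) := by
  classical
  haveI : NeZero (3 : ℕ) := ⟨by norm_num⟩
  let K := FiniteField.Extension F p 3
  letI : Fintype K := Fintype.ofFinite K
  have hj : finrank F K = 3 := FiniteField.finrank_extension F p 3
  have hK : Fintype.card K = Fintype.card F ^ 3 := by rw [Module.card_eq_pow_finrank (K := F), hj]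
  have key : ∀ d : K, d ≠ 0 → ∃ N, Reach Q N ∧ (d = 1 → N = Fintype.card K - 1) ∧
      (¬ IsSquare d → N = Fintype.card K + 1) := fun d hd => by
    obtain ⟨Y, g, N, -, hY, hYd, hg, hgc, hgN, h1, h3⟩ :=
      exists_torus_in hQ h2 (nondegOn_top hQ) K hd hj (by rw [finrank_top, hV])
    obtain ⟨f, hf, hfc⟩ := exists_fixer hQ h2 (nondegOn_perp hQ.2 hY) (by
      have := hY.finrank_perp; omega)
    refine ⟨N, reach_of_pow (h := g * f) ?_ fun n hn => hgN n (hg.pow_eq_one hY hf ?_ hn).1, fun h => (h1 h).1, h3⟩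
    · rw [map_mul, hgc, hfc]; simp
    · exact fun y hy z hz => mem_perp.1 hz y hy
  obtain ⟨ν, hν⟩ := FiniteField.exists_nonsquare (F := K) fun hc => h2 (by
    haveI : CharP K 2 := ringChar.of_eq hc
    exact (algebraMap F K).injective (by rw [map_ofNat, map_zero]; exact CharTwo.two_eq_zero))
  obtain ⟨N, hN, hN1, -⟩ := key 1 one_ne_zero
  obtain ⟨N', hN', -, hN'1⟩ := key ν fun h => hν (h ▸ IsSquare.zero)
  rw [hN1 rfl, hK] at hN
  rw [hN'1 hν, hK] at hN'
  exact ⟨hN, hN'⟩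

include p hp in
/-- `(q⁴ - 1) / 2`. -/
theorem reach_quartic (hQ : (polarBilin Q).Nondegenerate) (h2 : (2 : F) ≠ 0) (hV : finrank F V = 8)
    (hM : ¬ OrthInv.PlusOn Q ⊤) : Reach Q ((Fintype.card F ^ 4 - 1) / 2) := by
  classical
  haveI : NeZero (2 : ℕ) := ⟨by norm_num⟩
  let K := FiniteField.Extension F p 2
  letI : Fintype K := Fintype.ofFinite K
  have hj : finrank F K = 2 := FiniteField.finrank_extension F p 2
  have hK : Fintype.card K = Fintype.card F ^ 2 := by rw [Module.card_eq_pow_finrank (K := F), hj]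
  haveI : FiniteDimensional F K := Module.Finite.of_finite
  obtain ⟨Y, g, N, -, hY, hYd, hg, hgc, hgN, h1, -⟩ :=
    exists_torus_in hQ h2 (nondegOn_top hQ) K (one_ne_zero) hj (by rw [finrank_top, hV]; norm_num)
  obtain ⟨hN, hYp⟩ := h1 rfl
  have hXd := hY.finrank_perp
  have hX := nondegOn_perp hQ.2 hY
  have hXp : ¬ OrthInv.PlusOn Q (perp (polarBilin Q) Y) := fun h => hM <| by
    rw [← hY.isCompl.sup_eq_top]
    exact OrthInv.plus_add hY.isCompl.disjoint (fun y hy x hx => mem_perp.1 hx y hy) hYp h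
  obtain ⟨ν, hν⟩ := FiniteField.exists_nonsquare (F := K) fun hc => h2 (by
    haveI : CharP K 2 := ringChar.of_eq hc
    exact (algebraMap F K).injective (by rw [map_ofNat, map_zero]; exact CharTwo.two_eq_zero))
  obtain ⟨R, φ, T, N', -, hR, hnd, hchi, -, hev, hper, -, h3⟩ :=
    exists_torus_model h2 K (d := ν) fun h => hν (h ▸ IsSquare.zero)
  have hW : finrank F (K × K) = 2 * 2 := by rw [Module.finrank_prod, hj]
  obtain ⟨Z, J, hZX, hZ, -, -, hJ, hJi⟩ := exists_piece_in hQ h2 hX hnd hW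
    (Or.inr ⟨by omega, iff_of_false (torus_four_not_plus h2 K hj hnd T (h3 hν) hev hper) hXp⟩)
  refine reach_of_pow (h := g * J T) ?_ fun n hn => ?_
  · rw [map_mul, hgc, (hJ T).2, hchi]; simp
  · obtain ⟨hn1, hn2⟩ := hg.pow_eq_one hY (hJ T).1 (fun y hy z hz => mem_perp.1 (hZX hz) y hy) hn
    have ha : Fintype.card F ^ 2 - 1 ∣ n := by rw [← hK, ← hN]; exact hgN n hn1
    have hb : Fintype.card F ^ 2 + 1 ∣ n := by
      rw [← map_pow] at hn2
      rw [← hK, ← h3 hν]
      refine (hper (1, 0) (fun h => one_ne_zero (congrArg Prod.fst h)) n).1 ?_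
      rw [hJi (hn2.trans (map_one J).symm)]; rfl
    have hodd : Fintype.card F % 2 = 1 := FiniteField.odd_card_of_char_ne_two fun hc => h2 (by
      haveI : CharP F 2 := ringChar.of_eq hc
      exact CharTwo.two_eq_zero)
    obtain ⟨t, ht⟩ : ∃ t, Fintype.card F = 2 * t + 1 := ⟨Fintype.card F / 2, by omega⟩
    set q := Fintype.card F
    have hsq : q ^ 2 = 4 * (t * t + t) + 1 := by rw [ht]; ring
    have hq4 : (q ^ 4 - 1) / 2 = (q ^ 2 - 1) * ((q ^ 2 + 1) / 2) := by
      rw [show q ^ 4 = q ^ 2 * q ^ 2 by ring, hsq]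
      generalize 4 * (t * t + t) = s at *
      rw [Nat.add_sub_cancel, show (s + 1) * (s + 1) - 1 = s * (s + 1 + 1) by
        rw [show (s + 1) * (s + 1) = s * (s + 1 + 1) + 1 by ring, Nat.add_sub_cancel]]
      refine Nat.mul_div_assoc s ?_
      obtain ⟨u, hu⟩ : ∃ u, q = 2 * u + 1 := ⟨t, ht⟩
      rw [← hsq, hu]
      exact ⟨2 * u * u + 2 * u + 1, by ring⟩
    rw [hq4]
    refine Nat.Coprime.mul_dvd_of_dvd_of_dvd ?_ ha ((Nat.div_dvd_of_dvd ⟨2 * (t * t + t) + 1, by omega⟩).trans hb)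
    rw [hsq, Nat.add_sub_cancel, show (4 * (t * t + t) + 1 + 1) / 2 = 2 * (t * t + t) + 1 by omega]
    generalize t * t + t = w
    rw [show 4 * w = 2 * (2 * w) by ring]
    exact Nat.Coprime.mul_left (by simp) (by simp)

/-- `p · L` for the three lists of small tori. -/
theorem reach_first (hQ : (polarBilin Q).Nondegenerate) (h2 : (2 : F) ≠ 0) (hV : finrank F V = 8) :
    Reach Q ((Fintype.card F ^ 2 - 1) * p) ∧
    Reach Q (Nat.lcm (Fintype.card F ^ 2 + 1) (Fintype.card F + 1) * p) ∧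
    Reach Q (Nat.lcm (Fintype.card F ^ 2 + 1) (Fintype.card F - 1) * p) := by
  classical
  haveI : NeZero (2 : ℕ) := ⟨by norm_num⟩
  let K := FiniteField.Extension F p 2
  letI : Fintype K := Fintype.ofFinite K
  have hj : finrank F K = 2 := FiniteField.finrank_extension F p 2
  have hK : Fintype.card K = Fintype.card F ^ 2 := by rw [Module.card_eq_pow_finrank (K := F), hj]
  haveI : FiniteDimensional F K := Module.Finite.of_finite
  have fin : ∀ (h : orthGroup Q) (L : ℕ) (v : V), chi Q h = 1 → h.1 v = v → v ≠ 0 →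
      (∀ n : ℕ, h ^ n = 1 → L ∣ n) → ¬ p ∣ L → Reach Q (L * p) := fun h L v hc hhv hv hL hpL => by
    have := reach_of_block p hc (1 : orthGroup Q) v (j := 0) (fun i => by rw [pow_fix hhv, one_pow]; rfl)
      (by rw [pow_zero, pow_one]; exact sub_self _) (by rw [pow_zero, Nat.sub_self, pow_zero]; exact hv) hL hpL
    rwa [zero_add, pow_one] at this
  have vec : ∀ X : Submodule F V, 0 < finrank F X → ∃ v ∈ X, v ≠ 0 := fun X hX =>
    Submodule.exists_mem_ne_zero_of_ne_bot fun h => by rw [h, finrank_bot] at hX; omega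
  obtain ⟨ν, hν⟩ := FiniteField.exists_nonsquare (F := F) fun h => h2 (by
    haveI : CharP F 2 := ringChar.of_eq h; exact CharTwo.two_eq_zero)
  obtain ⟨κ, hκ⟩ := FiniteField.exists_nonsquare (F := K) fun hc => h2 (by
    haveI : CharP K 2 := ringChar.of_eq hc
    exact (algebraMap F K).injective (by rw [map_ofNat, map_zero]; exact CharTwo.two_eq_zero))
  refine ⟨?_, ?_⟩
  · obtain ⟨Y, g, N, -, hY, hYd, hg, hgc, hgN, h1, -⟩ :=
      exists_torus_in hQ h2 (nondegOn_top hQ) K (one_ne_zero) hj (by rw [finrank_top, hV]; norm_num)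
    have hYf := hY.finrank_perp
    obtain ⟨C, hCX, hC, hCd⟩ := exists_nondeg_le h2 (nondegOn_perp hQ.2 hY) (k := 2) (by omega)
    obtain ⟨D, hDX, -, hDd, hCD⟩ := exists_rest hQ (nondegOn_perp hQ.2 hY) hC hCX
    obtain ⟨f, hf, hfc⟩ := exists_fixer hQ h2 hC hCd.ge
    obtain ⟨v, hv, hv0⟩ := vec D (by omega)
    rw [(h1 rfl).1, hK] at hgN
    refine fin (g * f) _ v (by rw [map_mul, hgc, hfc]; simp) ?_ hv0
      (fun n hn => hgN n (hg.pow_eq_one hY hf (fun y hy z hz => mem_perp.1 (hCX hz) y hy) hn).1)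
      (card_pow_sub_one (F := F) p two_ne_zero)
    show g.1 (f.1 v) = v
    rw [hf.fix_of_orth fun c hc => hCD c hc v hv, hg.1 v (hDX hv)]
  · obtain ⟨Y, g, N, -, hY, hYd, hg, hgc, hgN, -, h3⟩ :=
      exists_torus_in hQ h2 (nondegOn_top hQ) K (d := κ) (fun h => hκ (h ▸ IsSquare.zero)) hj
        (by rw [finrank_top, hV]; norm_num)
    rw [h3 hκ, hK] at hgN
    have hYf := hY.finrank_perp
    have key : ∀ (d : F), d ≠ 0 → ∃ N', ((d = 1 → N' = Fintype.card F - 1) ∧
        (¬ IsSquare d → N' = Fintype.card F + 1)) ∧ ∃ (h : orthGroup Q) (v : V), chi Q h = 1 ∧ h.1 v = v ∧ v ≠ 0 ∧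
        ∀ n : ℕ, h ^ n = 1 → Nat.lcm (Fintype.card F ^ 2 + 1) N' ∣ n := fun d hd => by
      obtain ⟨C, f, N', hCX, hC, hCd, hf, hfc, hfN, h1', h3'⟩ :=
        exists_torus_in hQ h2 (nondegOn_perp hQ.2 hY) F hd (Module.finrank_self F) (by omega)
      obtain ⟨D, hDX, -, hDd, hCD⟩ := exists_rest hQ (nondegOn_perp hQ.2 hY) hC hCX
      obtain ⟨v, hv, hv0⟩ := vec D (by omega)
      refine ⟨N', ⟨fun h => (h1' h).1, h3'⟩, g * f, v, by rw [map_mul, hgc, hfc]; simp, ?_, hv0, fun n hn => ?_⟩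
      · show g.1 (f.1 v) = v
        rw [hf.fix_of_orth fun c hc => hCD c hc v hv, hg.1 v (hDX hv)]
      · obtain ⟨hn1, hn2⟩ := hg.pow_eq_one hY hf (fun y hy z hz => mem_perp.1 (hCX hz) y hy) hn
        exact Nat.lcm_dvd (hgN n hn1) (hfN n hn2)
    refine ⟨?_, ?_⟩
    · obtain ⟨N', ⟨-, hN'⟩, h, v, hc, hhv, hv, hn⟩ := key ν fun h => hν (h ▸ IsSquare.zero)
      rw [hN' hν] at hn
      exact fin h _ v hc hhv hv hn (not_dvd_lcm p (card_pow_add_one (F := F) p two_ne_zero)
        (by simpa using card_pow_add_one (F := F) p one_ne_zero))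
    · obtain ⟨N', ⟨hN', -⟩, h, v, hc, hhv, hv, hn⟩ := key 1 one_ne_zero
      rw [hN' rfl] at hn
      exact fin h _ v hc hhv hv hn (not_dvd_lcm p (card_pow_add_one (F := F) p two_ne_zero)
        (by simpa using card_pow_sub_one (F := F) p one_ne_zero))

/-- `9 (q ± 1)` in characteristic three. -/
theorem reach_second (hQ : (polarBilin Q).Nondegenerate) (h2 : (2 : F) ≠ 0) (hV : finrank F V = 8) (h3p : p = 3) :
    Reach Q ((Fintype.card F - 1) * p ^ 2) ∧ Reach Q ((Fintype.card F + 1) * p ^ 2) := by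
  classical
  obtain ⟨ν, hν⟩ := FiniteField.exists_nonsquare (F := F) fun h => h2 (by
    haveI : CharP F 2 := ringChar.of_eq h; exact CharTwo.two_eq_zero)
  have key : ∀ (d : F), d ≠ 0 → ∃ N, ((d = 1 → N = Fintype.card F - 1) ∧
      (¬ IsSquare d → N = Fintype.card F + 1)) ∧ (¬ p ∣ N → Reach Q (N * p ^ 2)) := fun d hd => by
    obtain ⟨Y, g, N, -, hY, hYd, hg, hgc, hgN, h1, h3⟩ :=
      exists_torus_in hQ h2 (nondegOn_top hQ) F hd (Module.finrank_self F) (by rw [finrank_top, hV]; norm_num)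
    have hYf := hY.finrank_perp
    have hX := nondegOn_perp hQ.2 hY
    obtain ⟨U, hUX, hU, hUd⟩ := exists_nondeg_le h2 hX (k := 3) (by omega)
    obtain ⟨C, hCX, hC, hCd, hUC⟩ := exists_rest hQ hX hU hUX
    obtain ⟨f, hf, hfc⟩ := exists_fixer hQ h2 hC (by omega)
    obtain ⟨u, hu, huk, v, hv, hvne⟩ := exists_regular hQ h2 hU 1 (by omega)
    have hUY : ∀ y ∈ Y, ∀ z ∈ U, polar Q y z = 0 := fun y hy z hz => mem_perp.1 (hUX hz) y hy
    have hCY : ∀ y ∈ Y, ∀ z ∈ C, polar Q y z = 0 := fun y hy z hz => mem_perp.1 (hCX hz) y hy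
    have hu1 : chi Q u = 1 := chi_of_odd hQ h2 (n := 3) (by decide) (Subtype.ext (LinearEquiv.ext fun x => by
      rw [coe_pow_apply, show (3 : ℕ) = p ^ 1 by rw [h3p, pow_one]]
      have := sub_one_pow p (u.1 : V →ₗ[F] V) 1
      rw [pow_one, h3p] at this
      rw [pow_one, h3p]
      rw [huk, eq_comm, sub_eq_zero] at this
      rw [this]; rfl))
    refine ⟨N, ⟨fun h => (h1 h).1, h3⟩, fun hpN =>
      reach_of_block p (h := g * f * u) (by rw [map_mul, map_mul, hgc, hfc, hu1]; simp) u v (fun i => ?_) (j := 1)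
        (by rw [h3p, pow_one]; exact huk) (by rw [h3p, pow_one]; exact hvne) (fun n hn => ?_) hpN⟩
    · induction i with
      | zero => rfl
      | succ i ih =>
        rw [pow_succ', pow_succ']
        show g.1 (f.1 (u.1 (((g * f * u) ^ i).1 v))) = u.1 ((u ^ i).1 v)
        rw [ih]
        have hm : u.1 ((u ^ i).1 v) ∈ U := hu.2 _ ((hu.pow i).2 v hv)
        rw [hf.fix_of_orth fun c hc => by rw [polar_comm]; exact hUC _ hm c hc, hg.fix_of_orth fun y hy => hUY y hy _ hm]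
    · have hfu : Supp (f * u) (perp (polarBilin Q) Y) := ⟨fun x hx => by
          show f.1 (u.1 x) = x
          rw [hu.1 x (perp_antitone hUX hx), hf.1 x (perp_antitone hCX hx)],
        mapsTo_perp fun y hy => by
          show f.1 (u.1 y) ∈ Y
          rw [hu.fix_of_orth fun z hz => by rw [polar_comm]; exact hUY y hy z hz,
            hf.fix_of_orth fun z hz => by rw [polar_comm]; exact hCY y hy z hz]
          exact hy⟩
      rw [mul_assoc] at hn
      exact hgN n (hg.pow_eq_one hY hfu (fun y hy z hz => mem_perp.1 hz y hy) hn).1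
  refine ⟨?_, ?_⟩
  · obtain ⟨N, ⟨hN, -⟩, h⟩ := key 1 one_ne_zero
    rw [hN rfl] at h
    exact h (by simpa using card_pow_sub_one (F := F) p one_ne_zero)
  · obtain ⟨N, ⟨-, hN⟩, h⟩ := key ν fun h => hν (h ▸ IsSquare.zero)
    rw [hN hν] at h
    exact h (by simpa using card_pow_add_one (F := F) p one_ne_zero)

/-- `50` in characteristic five. -/
theorem reach_fifty (hQ : (polarBilin Q).Nondegenerate) (h2 : (2 : F) ≠ 0) (hV : finrank F V = 8) (h5p : p = 5) :
    Reach Q (2 * p ^ 2) := by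
  classical
  obtain ⟨Y, -, hY, hYd⟩ := exists_nondeg_le h2 (nondegOn_top hQ) (k := 3) (by rw [finrank_top, hV]; norm_num)
  obtain ⟨g, hg, hgc, hg2, hg1⟩ := exists_involution hQ h2 hY hYd.ge
  have hYf := hY.finrank_perp
  obtain ⟨u, hu, huk, v, hv, hvne⟩ := exists_regular hQ h2 (nondegOn_perp hQ.2 hY) 2 (by omega)
  have ho : ∀ y ∈ Y, ∀ z ∈ perp (polarBilin Q) Y, polar Q y z = 0 := fun y hy z hz => mem_perp.1 hz y hy
  have hu1 : chi Q u = 1 := chi_of_odd hQ h2 (n := 5) (by decide) (Subtype.ext (LinearEquiv.ext fun x => by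
    rw [coe_pow_apply]
    have := sub_one_pow p (u.1 : V →ₗ[F] V) 1
    rw [pow_one, h5p] at this
    rw [huk, eq_comm, sub_eq_zero] at this
    rw [this]; rfl))
  refine reach_of_block p (h := g * u) (by rw [map_mul, hgc, hu1, one_mul]) u v (fun i => ?_) (j := 1)
    (by rw [h5p, pow_one]; exact huk) (by rw [h5p, pow_one]; exact hvne) (fun n hn => ?_) (fun h => ?_)
  · induction i with
    | zero => rfl
    | succ i ih =>
      rw [pow_succ', pow_succ']
      show g.1 (u.1 (((g * u) ^ i).1 v)) = u.1 ((u ^ i).1 v)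
      rw [ih, hg.1 _ (hu.2 _ ((hu.pow i).2 v hv))]
  · have h1 := (hg.pow_eq_one hY hu ho hn).1
    haveI : Fact (Nat.Prime 2) := ⟨Nat.prime_two⟩
    have h5 : orderOf g = 2 := orderOf_eq_prime (by rw [pow_two, hg2]) hg1
    exact h5 ▸ orderOf_dvd_of_pow_eq_one h1
  · exact char_ne_two (F := F) p h2 ((Nat.prime_dvd_prime_iff_eq hp.out Nat.prime_two).1 h)

end CfsgLib.OrthSpecNine
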